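import Cfsg.Agent.Lib.Cyc.Three

/-!
# Powers of the commutator with an endomorphism
-/

set_option autoImplicit false

namespace Cfsg.Lib.Blau

open Finset Module Cfsg.Lib.Cyc

variable {k U : Type*} [Field k] [AddCommGroup U] [Module k U] {p e t d m n : ℕ}

theorem ad_pow_succ (T a : End k U) (n : ℕ) : (ad T ^ (n + 1)) a = (ad T ^ n) (ad T a) := by
  rw [pow_succ, End.mul_apply]

theorem ad_pow_mul_of_commute {T b : End k U} (hb : Commute T b) (n : ℕ) (a : End k U) :
    (ad T ^ n) (a * b) = (ad T ^ n) a * b := by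
  induction n generalizing a with
  | zero => rfl
  | succ n ih => rw [ad_pow_succ, ad_mul, show ad T b = 0 from sub_eq_zero.2 hb, mul_zero, add_zero,
      ih, ad_pow_succ]

theorem ad_pow_mul (T : End k U) (m n : ℕ) {a b : End k U} (ha : (ad T ^ (m + 1)) a = 0)
    (hb : (ad T ^ (n + 1)) b = 0) :
    (ad T ^ (m + n)) (a * b) = ((m + n).choose n : k) • ((ad T ^ m) a * (ad T ^ n) b) := by
  induction m generalizing n a b with
  | zero =>
    rw [zero_add, pow_one] at ha
    rw [zero_add, Nat.choose_self, Nat.cast_one, one_smul]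
    clear hb
    induction n generalizing b with
    | zero => rfl
    | succ n ih => rw [ad_pow_succ, ad_mul, ha, zero_mul, zero_add, ih, ad_pow_succ]
  | succ m ih =>
    induction n generalizing b with
    | zero =>
      rw [zero_add, pow_one, ad_apply, sub_eq_zero] at hb
      simpa using ad_pow_mul_of_commute hb _ a
    | succ n ih' =>
      rw [← add_assoc, ad_pow_succ, ad_mul, map_add, ih' (by rwa [← ad_pow_succ]),
        show m + 1 + n = m + (n + 1) by omega, ih (n + 1) (by rwa [← ad_pow_succ]) hb,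
        Nat.choose_succ_succ, Nat.cast_add, add_smul, ← ad_pow_succ, ← ad_pow_succ, add_comm]

theorem exists_ad_pow [CharP k p] {T f : End k U} (hf : ad T (ad T f) = (-2 : k) • T) (i : ℕ)
    (hi : 2 * i < p) : ∃ a, (ad T ^ (2 * i)) a = T ^ i := by
  suffices H : ∃ c : k, c ≠ 0 ∧ (ad T ^ (2 * i)) (f ^ i) = c • T ^ i from
    H.elim fun c hc => ⟨c⁻¹ • f ^ i, by rw [map_smul, hc.2, inv_smul_smul₀ hc.1]⟩
  have h0 : ∀ n : ℕ, n ≠ 0 → n < p → (n : k) ≠ 0 := fun n h9 h10 =>
    mt (CharP.cast_eq_zero_iff k p _).1 (Nat.not_dvd_of_pos_of_lt (Nat.pos_of_ne_zero h9) h10)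
  have h1 : ∀ j, ad T (T ^ j) = 0 := fun j => sub_eq_zero.2 ((Commute.refl T).pow_right j)
  have h2 : (ad T ^ 2) f = (-2 : k) • T := hf
  induction i with
  | zero => exact ⟨1, one_ne_zero, by simp⟩
  | succ i ih =>
    obtain ⟨c, h3, h4⟩ := ih (by omega)
    refine ⟨((2 * i + 2).choose 2 : k) * (c * -2), mul_ne_zero ?_ (mul_ne_zero h3
      (neg_ne_zero.2 (h0 2 two_ne_zero (by omega)))), ?_⟩
    · rw [Nat.choose_two_right, show (2 * i + 2) * (2 * i + 2 - 1) = 2 * ((i + 1) * (2 * i + 1)) by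
        rw [show 2 * i + 2 - 1 = 2 * i + 1 by omega]; ring, Nat.mul_div_cancel_left _ two_pos,
        Nat.cast_mul]
      exact mul_ne_zero (h0 _ (by omega) (by omega)) (h0 _ (by omega) (by omega))
    · rw [pow_succ f, mul_add, mul_one, ad_pow_mul T _ 2
        (by rw [pow_succ', End.mul_apply, h4, map_smul, h1, smul_zero])
        (by rw [pow_succ', End.mul_apply, h2, map_smul, ad_apply, sub_self, smul_zero]), h4, h2, smul_mul_smul_comm, smul_smul, ← pow_succ]

theorem ad_pow_pred [hp : Fact p.Prime] [CharP k p] (h2 : 2 < p) (T a : End k U) :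
    (ad T ^ (p - 1)) a = ∑ i ∈ range p, T ^ (p - 1 - i) * a * T ^ i := by
  have h1 : ∀ m < p, ((p - 1).choose m : k) = (-1) ^ m := fun m => by
    induction m with
    | zero => simp
    | succ m ih =>
      intro hm
      have := (CharP.cast_eq_zero_iff k p _).2 (hp.out.dvd_choose_self m.succ_ne_zero hm)
      rw [← Nat.sub_add_cancel hp.out.one_le, Nat.choose_succ_succ, Nat.cast_add,
        ih (by omega)] at this
      rw [pow_succ]
      linear_combination this
  have h3 : Commute (-LinearMap.mulRight k T : End k (End k U)) (LinearMap.mulLeft k T) :=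
    Commute.neg_left (R := End k (End k U)) (LinearMap.commute_mulLeft_right T T).symm
  rw [ad, sub_eq_neg_add, h3.add_pow, Nat.sub_add_cancel hp.out.one_le, LinearMap.sum_apply]
  refine sum_congr rfl fun i hi => ?_
  rw [← nsmul_eq_mul', ← Nat.cast_smul_eq_nsmul k, h1 i (mem_range.1 hi), ← neg_one_smul k (LinearMap.mulRight k T),
    smul_pow, smul_mul_assoc, smul_smul, ← mul_pow]
  simp [LinearMap.pow_mulLeft, LinearMap.pow_mulRight]

theorem card_filter_le {M : Type*} [Group M] {α c : M} (he : orderOf α = e) (ht : e * t + 1 = d)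
    (m : ℕ) (s : Finset (Fin d)) (hs : ∀ j ∈ s, e * m ≤ j ∧ α ^ j.1 = c) (he0 : e ≠ 0) :
    #s ≤ t + 1 - m ∧ (c ≠ 1 → #s ≤ t - m) := by
  have h1 : Set.InjOn (fun j : Fin d => j.1 / e) s := fun i hi j hj h => Fin.ext (by
    have := pow_eq_pow_iff_modEq.1 ((hs i hi).2.trans (hs j hj).2.symm)
    rw [he] at this
    rw [← Nat.div_add_mod i e, ← Nat.div_add_mod j e, show i.1 / e = j.1 / e from h, this])
  have h2 : ∀ j ∈ s, m ≤ j.1 / e := fun j hj =>
    (Nat.le_div_iff_mul_le he0.bot_lt).2 (mul_comm e m ▸ (hs j hj).1)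
  refine ⟨(card_le_card_of_injOn _ (fun j hj => ?_) h1).trans (Nat.card_Ico m _).le,
    fun hc => (card_le_card_of_injOn _ (fun j hj => ?_) h1).trans (Nat.card_Ico m _).le⟩
  · exact mem_coe.2 (mem_Ico.2 ⟨h2 j hj, Nat.lt_succ_of_le (Nat.div_le_of_le_mul (by omega))⟩)
  · refine mem_coe.2 (mem_Ico.2 ⟨h2 j hj, Nat.div_lt_of_lt_mul (lt_of_le_of_ne (by omega)
      fun e => hc ?_)⟩)
    rw [← (hs j hj).2, e, ← he, pow_mul, pow_orderOf_eq_one, one_pow]

theorem sum_min (e d n : ℕ) (h : e ≤ d) :
    ∑ j ∈ range (2 * e + n), (d - min ((j + 1) / 2) e) + e * e + n * e = (2 * e + n) * d := by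
  induction n with
  | zero =>
    suffices H : ∀ i ≤ e, ∑ j ∈ range (2 * i), (d - min ((j + 1) / 2) e) + i * i = 2 * i * d by
      simpa using H e le_rfl
    intro i
    induction i with
    | zero => simp
    | succ i ih =>
      intro hi
      have := ih (by omega)
      rw [mul_add, mul_one, sum_range_succ, sum_range_succ, show min ((2 * i + 1) / 2) e = i by omega,
        show min ((2 * i + 1 + 1) / 2) e = i + 1 by omega]
      obtain ⟨c, rfl⟩ := Nat.exists_eq_add_of_le (hi.trans h)
      rw [show i + 1 + c - i = c + 1 by omega, show i + 1 + c - (i + 1) = c by omega]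
      linear_combination this
  | succ n ih =>
    rw [← add_assoc, sum_range_succ, show min ((2 * e + n + 1) / 2) e = e by omega]
    obtain ⟨c, rfl⟩ := Nat.exists_eq_add_of_le h
    rw [Nat.add_sub_cancel_left]
    linear_combination ih

end Cfsg.Lib.Blau
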