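import Mathlib

/-!
# The walk around the exceptional vertex
-/

set_option autoImplicit false

namespace Cfsg.Lib.Blau

variable {e p t : ℕ} [NeZero e] {Q : ℕ → ZMod e → Prop}

theorem trichotomy (ht : e * t + 1 = p) (h2 : 2 * e < p) (pos : ∀ n z, Q n z → 0 < n ∧ n < p)
    (ex : ∀ i, ∃ n : ℕ, Q n (i + 1 - n))
    (hom : ∀ n z m z' (q : ℕ), Q n z → Q m z' → z' + q = z → m ≤ q + n → q < m → q + n < p →
      q = 0 ∧ n = m) :
    (∃ O : Set (ZMod e), O.Nonempty ∧ ∀ a ∈ O, ∃ ε, 0 < ε ∧ ε ≤ e ∧ Q (p - ε) (a + ε) ∧ a + ε ∈ O) ∨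
    (∃ O : Set (ZMod e), (∀ b ∈ O, ∃ n ≤ e, Q n b ∧ b + n ∈ O) ∧
      ∃ b n, 1 < n ∧ n ≤ e ∧ Q n b ∧ b + n ∈ O) ∨ ∀ b, Q 1 b := by
  choose n hn using ex
  have he := NeZero.pos e
  have hp : (p : ZMod e) = 1 := by rw [← ht]; simp
  have h3 : ∀ m z, Q m z → m ≤ e ∨ p ≤ m + e := fun m z h => by
    by_contra! h3
    have := hom m z m z e h h (by simp) (by omega) h3.1 (by omega)
    omega
  have h4 : ∀ m z m', Q m z → Q m' z → m = m' := fun m z m' h h' => by
    rcases le_total m m' with h4 | h4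
    · exact (hom m' z m z 0 h' h (by simp) (by omega) (pos _ _ h).1 (by simpa using (pos _ _ h').2)).2.symm
    · exact (hom m z m' z 0 h h' (by simp) (by omega) (pos _ _ h').1 (by simpa using (pos _ _ h).2)).2
  have h5 : Function.Surjective fun i => i + 1 - (n i : ZMod e) :=
    Finite.surjective_of_injective fun i j (h : i + 1 - (n i : ZMod e) = j + 1 - n j) => by
      rwa [h4 (n i) _ _ (h ▸ hn i) (hn j), sub_left_inj, add_left_inj] at h
  have h6 : ∀ ε, ε ≤ p → ((p - ε : ℕ) : ZMod e) = 1 - ε := fun ε h => by rw [Nat.cast_sub h, hp]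
  obtain ⟨i, hi⟩ := Finite.exists_max fun i => min (n i) (p - n i)
  have h7 := pos _ _ (hn i)
  rcases h3 _ _ (hn i) with h8 | h8
  · have key : ∀ b, (∀ m, 0 < m → m ≤ n i → ∃ (j : ZMod e) (r δ : ℕ), r ≤ e ∧ Q r (j + 1 - r) ∧
        δ < r ∧ δ < m ∧ j = b - m + δ) → ∃ r ≤ n i, Q r b ∧ ∀ m, 0 < m → m ≤ n i →
          ∃ (j : ZMod e) (r' δ : ℕ), r' ≤ e ∧ Q r' (j + 1 - r') ∧ δ < r' ∧ δ < m ∧
            j = b + r - m + δ := fun b hb => by
      obtain ⟨j, rfl⟩ := h5 b
      have h9 := pos _ _ (hn j)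
      have h10 := hi j
      have h11 : n j ≤ e := (h3 _ _ (hn j)).resolve_right fun h11 => by
        obtain ⟨j', r, δ, h12, h13, h14, h15, h16⟩ := hb (p - n j) (by omega) (by omega)
        have := hom _ _ _ _ (n j - (r - δ)) h13 (hn j) (by
          rw [h16, Nat.cast_sub (by omega), Nat.cast_sub h14.le, h6 _ h9.2.le]; ring)
          (by omega) (by omega) (by omega)
        omega
      refine ⟨n j, by omega, hn j, fun m h12 h13 => ?_⟩
      rcases le_or_gt m (n j) with h14 | h14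
      · exact ⟨j, n j, m - 1, h11, hn j, by omega, by omega, by rw [Nat.cast_sub h12]; ring⟩
      · obtain ⟨j', r, δ, h15, h16, h17, h18, h19⟩ := hb (m - n j) (by omega) (by omega)
        exact ⟨j', r, δ, h15, h16, h17, by omega, by rw [h19, Nat.cast_sub h14.le]; ring⟩
    have start : ∀ m, 0 < m → m ≤ n i → ∃ (j : ZMod e) (r δ : ℕ), r ≤ e ∧ Q r (j + 1 - r) ∧
        δ < r ∧ δ < m ∧ j = i + 1 - m + δ := fun m h9 h10 =>
      ⟨i, n i, m - 1, h8, hn i, by omega, by omega, by rw [Nat.cast_sub h9]; ring⟩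
    refine .inr ((Nat.lt_or_ge 1 (n i)).imp (fun h9 => ⟨_, fun b hb => (key b hb).imp fun r hr =>
      ⟨hr.1.trans h8, hr.2⟩, _, n i, h9, h8, hn i, by rw [sub_add_cancel]; exact start⟩)
        fun h9 b => ?_)
    have h10 : ∀ a : ℕ, ∀ m, 0 < m → m ≤ n i → ∃ (j : ZMod e) (r δ : ℕ), r ≤ e ∧
        Q r (j + 1 - r) ∧ δ < r ∧ δ < m ∧ j = i + 1 + a - m + δ := fun a => by
      induction a with
      | zero => simpa using start
      | succ a ih =>
        obtain ⟨r, h10, h11, h12⟩ := key _ ih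
        obtain rfl : r = 1 := by have := pos _ _ h11; omega
        simpa [add_assoc] using h12
    obtain ⟨r, h11, h12, -⟩ := key _ (h10 (b - (i + 1)).val)
    obtain rfl : r = 1 := by have := pos _ _ h12; omega
    simpa using h12
  · refine .inl ⟨{a | ∀ m, 0 < m → m ≤ p - n i → ∃ (ε q : ℕ), ε ≤ e ∧ Q (p - ε) (a + 1 - m + q) ∧
      q < m ∧ q < ε}, ⟨i + 1 - n i, fun m h9 h10 => ⟨p - n i, m - 1, by omega, ?_, by omega,
        by omega⟩⟩, fun a ha => ?_⟩
    · rw [Nat.cast_sub h9, Nat.sub_sub_self h7.2.le]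
      convert hn i using 1
      ring
    have h9 := pos _ _ (hn a)
    have h10 := hi a
    have h11 : p ≤ n a + e := (h3 _ _ (hn a)).resolve_left fun h11 => by
      obtain ⟨ε, q, h12, h13, h14, h15⟩ := ha (n a) (by omega) (by omega)
      have := hom _ _ _ _ q h13 (hn a) rfl (by omega) h14 (by omega)
      omega
    have h12 : Q (p - (p - n a)) (a + (p - n a : ℕ)) := by
      rw [Nat.sub_sub_self h9.2.le, h6 _ h9.2.le, ← add_sub_assoc]
      exact hn a
    refine ⟨p - n a, by omega, by omega, h12, fun m h13 h14 => ?_⟩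
    rcases le_or_gt m (p - n a) with h15 | h15
    · refine ⟨p - n a, m - 1, by omega, ?_, by omega, by omega⟩
      convert h12 using 1
      rw [Nat.cast_sub h13]
      ring
    · obtain ⟨ε, q, h16, h17, h18, h19⟩ := ha (m - (p - n a)) (by omega) (by omega)
      refine ⟨ε, q, h16, ?_, by omega, h19⟩
      convert h17 using 1
      rw [Nat.cast_sub h15.le]
      ring

end Cfsg.Lib.Blau
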