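import Cfsg.Agent.Lib.Blau.Simple
import Cfsg.Agent.Lib.Cyc.Half

/-!
# Counting homomorphisms into the tensor product of two blocks of size `p - e`
-/

set_option autoImplicit false

namespace Cfsg.Lib.Blau

open Finset Module Cfsg.Lib.Cyc Subgroup MonoidAlgebra
open scoped MatrixGroups

variable {k G U X S : Type*} [Field k] [Group G]
  [AddCommGroup U] [Module k U] [Module k[G] U] [IsScalarTower k k[G] U]
  [AddCommGroup X] [Module k X] [Module k[G] X] [IsScalarTower k k[G] X]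
  [AddCommGroup S] [Module k S] [Module k[G] S] [IsScalarTower k k[G] S]
  {p e t m n q B : ℕ} {x y : G} {E : Subgroup G} {α κ l l' : E →* kˣ} {D : k[G]}
  {K : Submodule k[G] U} {u u₀ v w : U} {ξ : X} {u' : S} {g : ℕ → X} {z z' : ZMod e}

variable (X) in
/-- Homomorphisms vanishing on `K`. -/
def van (K : Submodule k[G] U) : Submodule k (U →ₗ[k[G]] X) where
  carrier := {f | ∀ v ∈ K, f v = 0}
  add_mem' ha hb v hv := by rw [LinearMap.add_apply, ha v hv, hb v hv, add_zero]
  zero_mem' _ _ := rfl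
  smul_mem' c f hf v hv := by rw [LinearMap.smul_apply, hf v hv, smul_zero]

instance finiteHom [FiniteDimensional k U] [FiniteDimensional k X] :
    FiniteDimensional k (U →ₗ[k[G]] X) :=
  Module.Finite.of_injective (LinearMap.restrictScalarsₗ k k[G] U X k)
    (LinearMap.restrictScalars_injective k)

theorem finrank_van_add [FiniteDimensional k U] [FiniteDimensional k X] {F : U →ₗ[k] S}
    (hF : Eqv K F) (hs : ∀ s, ∃ v ∈ K, F v = s) {ι : Type*} [Fintype ι] {f : ι → S →ₗ[k[G]] X}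
    (hf : LinearIndependent k f) (he : ∀ i, ∃ g : U →ₗ[k[G]] X, ∀ v ∈ K, g v = f i (F v)) :
    finrank k (van X K) + Fintype.card ι ≤ finrank k (van X hF.ker) := by
  choose g hg using he
  let Ψ : (van X K × (ι → k)) →ₗ[k] van X hF.ker :=
    ((van X K).subtype.coprod (Fintype.linearCombination k g)).codRestrict _ fun a v hv => by
      simp [Fintype.linearCombination_apply, LinearMap.sum_apply, a.1.2 v hv.1, hg _ v hv.1, hv.2]
  have := LinearMap.finrank_le_finrank_of_injective (f := Ψ) ((injective_iff_map_eq_zero _).2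
    fun a ha => by
      replace ha : (a.1 : U →ₗ[k[G]] X) + ∑ i, a.2 i • g i = 0 := congrArg Subtype.val ha
      have h1 : a.2 = 0 := funext (Fintype.linearIndependent_iff.1 hf a.2 (LinearMap.ext fun s => by
        obtain ⟨v, hv, rfl⟩ := hs s
        simpa [LinearMap.sum_apply, a.1.2 v hv, hg _ v hv] using LinearMap.congr_fun ha v))
      exact Prod.ext (Subtype.ext (by simpa [h1] using ha)) h1)
  simpa using this

theorem finrank_van_le [FiniteDimensional k X] {W : Submodule k X} (h1 : ∀ f ∈ van X K, f v ∈ W)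
    (h2 : ∀ f ∈ van X K, f v = 0 → f = 0) : finrank k (van X K) ≤ finrank k W :=
  LinearMap.finrank_le_finrank_of_injective (f := LinearMap.codRestrict W
    (⟨⟨fun f => f.1 v, fun _ _ => rfl⟩, fun _ _ => rfl⟩ : van X K →ₗ[k] X) fun f => h1 f f.2)
    ((injective_iff_map_eq_zero _).2 fun f hf => Subtype.ext (h2 f f.2 (congrArg Subtype.val hf)))

/-- The weights in a block. -/
def om (α κ : E →* kˣ) (z : ZMod e) : E →* kˣ := κ * α ^ z.val

theorem om_zero : om α κ (0 : ZMod e) = κ := by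
  rw [om, ZMod.val_zero]
  exact (congrArg (κ * ·) (pow_zero α)).trans (mul_one κ)

theorem Ctx.om_add [NeZero e] (h : Ctx p e x E α D) (hz : z + m = z') :
    om α κ z * α ^ m = om α κ z' := by
  rw [← hz, om, om, ZMod.val_add, ZMod.val_natCast, Nat.add_mod_mod]
  refine (mul_assoc κ _ _).trans (congrArg (κ * ·) ((pow_add α _ _).symm.trans ?_))
  exact (pow_mod_orderOf α _).symm.trans (by rw [h.ord])

theorem Ctx.om_inj [NeZero e] (h : Ctx p e x E α D) (hz : om α κ z = om α κ z') : z = z' :=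
  ZMod.val_injective e (pow_injOn_Iio_orderOf (x := α) (z.val_lt.trans_eq h.ord.symm)
    (z'.val_lt.trans_eq h.ord.symm) (mul_left_cancel (a := κ) hz))

variable (k) in
/-- The structure of the tensor product of two blocks of size `p - e`. -/
structure XS (p e t : ℕ) (α κ : E →* kˣ) (D : k[G]) (g : ℕ → X) : Prop where
  wt : ∀ i < e, g i ∈ wt X (om α κ (-(i : ZMod e)))
  zero : ∀ i < e, D ^ (2 * i + 1) • g i = 0
  nmem : ∀ i < e, D ^ (2 * i) • g i ∉ im k D (2 * i + 1) (⊤ : Submodule k[G] X)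
  fix : ∀ l : E →* kˣ, finrank k (Blau.wt X l ⊓ LinearMap.ker (act k X D) : Submodule k X) ≤ t
  fix' : ∀ l ≠ κ, finrank k (Blau.wt X l ⊓ LinearMap.ker (act k X D) : Submodule k X) < t
  nrm : ∀ l : E →* kˣ, finrank k (Blau.wt X l ⊓ im k D (p - 1) ⊤ : Submodule k X) < t
  nrm' : ∀ l ≠ κ, finrank k (Blau.wt X l ⊓ im k D (p - 1) ⊤ : Submodule k X) + 1 < t
  tot : finrank k (im k D (p - 1) (⊤ : Submodule k[G] X)) + 2 * e ≤ p

variable (X) in
/-- A submodule with a single block which is congruent to `u₀`, killed by many maps. -/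
def StA (D : k[G]) (p : ℕ) (u₀ : U) (l : E →* kˣ) (n B : ℕ) : Prop :=
  ∃ K u, Blk k D p K n u ∧ u ∈ wt U l ∧ u - u₀ ∈ im k D (p - n) ⊤ ∧ B ≤ finrank k (van X K)

/-- The group has no small non-trivial modules. -/
structure NS (p : ℕ) [Fact p.Prime] (x : G) : Prop where
  psl : ¬ ∃ ψ : normalClosure ({x} : Set G) →* PSL(2, ZMod p), Function.Surjective ψ
  perf : x ∈ closure {g | g ∈ normalClosure ({x} : Set G) ∧ ¬ p ∣ orderOf g}

variable [hp : Fact p.Prime] [CharP k p] [Finite G]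

omit [CharP k p] [Finite G] in
theorem NS.of_smul_eq (h : NS p x) (h1 : ∀ g ∈ normalClosure ({x} : Set G), ¬ p ∣ orderOf g →
    rep k G U g = 1) : rep k G U x = 1 :=
  (closure_le (rep k G U).ker).2 (fun g hg => h1 g hg.1 hg.2) h.perf

theorem NS.small [IsAlgClosed k] [FiniteDimensional k U] (hN : NS p x) (h : Ctx p e x E α D)
    (hd : 2 * finrank k U ≤ p) (v : U) : D • v = 0 := by
  refine h.smul_eq_zero (LinearMap.congr_fun (hN.of_smul_eq fun g hg h1 => ?_) v)
  by_contra h2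
  obtain ⟨V, _, _, _, τ, h3, ⟨a, ha⟩, h4⟩ := exists_schur (p := p) _ _
    ((rep k G U).comp (normalClosure {x}).subtype) le_rfl ⟨⟨g, hg⟩, fun a e => h2 (by
      obtain ⟨i, hi⟩ := mem_powers_iff_mem_zpowers.2 (mem_zpowers_pow_iff.2
        ((hp.out.coprime_iff_not_dvd.2 h1).pow_left a))
      rw [← hi, map_pow, show rep k G U (g ^ p ^ a) = 1 from e, one_pow])⟩
  have h5 := normalClosure_eq_top h.ox h.sq rfl (subset_normalClosure rfl)
  exact hN.psl (exists_psl_of_small τ ((orderOf_mk ..).trans h.ox)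
    (fun e => h.sq (e.trans (card_subgroup_dvd_card _))) h5 h4 (fun e => ha
      ((show ⊤ ≤ τ.ker from h5 ▸ normalClosure_le_normal (Set.singleton_subset_iff.2 e))
        (mem_top a))) (by omega)).2

theorem NS.exists_ne [IsAlgClosed k] [FiniteDimensional k U] (hN : NS p x) (h : Ctx p e x E α D)
    (hK : Blk k D p K n u) (h1 : 1 < n) (h2 : 2 * n ≤ p) : ∃ v ∈ K, D ^ (p - 1) • v ≠ 0 := by
  by_contra! h3
  have : FiniteDimensional k K := inferInstanceAs (FiniteDimensional k (K.restrictScalars k))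
  have h4 := hN.small h (U := K) (by have := hK.finrank_le h.pow_p h3; omega) ⟨u, hK.mem⟩
  exact hK.nmem' h1 (by rw [pow_one, show D • u = 0 from congrArg Subtype.val h4]; exact zero_mem _)

namespace Ctx

variable (h : Ctx p e x E α D) [FiniteDimensional k X]
include h

theorem exists_start (l : E →* kˣ) : ∃ (I : Submodule k[G] k[G]) (u₀ : I), u₀ ∈ wt I l ∧
    D ^ 1 • u₀ = 0 ∧ D ^ (1 - 1) • u₀ ∉ im k D 1 ⊤ ∧ StA X D p u₀ l 1 0 ∧ ∀ n B,
      StA X D p u₀ l n B → B ≤ finrank k (wt X l ⊓ LinearMap.ker (act k X D) : Submodule k X) := by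
  obtain ⟨ε, h1, h2, h3⟩ := h.exists_ind l
  set I := Submodule.span k[G] {ε}
  have hε : ε ∈ I := Submodule.mem_span_singleton_self ε
  have : FiniteDimensional k I := inferInstanceAs (FiniteDimensional k (I.restrictScalars k))
  have h4 : (⟨ε, hε⟩ : I) ∈ wt I l := fun g => Subtype.ext (h1 g)
  have h5 : D ^ 1 • (⟨ε, hε⟩ : I) = 0 := Subtype.ext (by simpa using h2)
  have h6 : D ^ (1 - 1) • (⟨ε, hε⟩ : I) ∉ im k D 1 ⊤ := fun ⟨w, _, e⟩ =>
    h3 ⟨w, w.2, by simpa using congrArg Subtype.val e⟩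
  obtain ⟨φ, -, h7, h8⟩ := h.fitting h4 one_pos hp.out.one_lt h5 h6
  refine ⟨I, _, h4, h5, h6, ⟨_, _, h7, map_mem_wt φ h4, h8, Nat.zero_le _⟩,
    fun n B ⟨K, u, _, _, _, hB⟩ => hB.trans (finrank_van_le (v := ⟨ε, hε⟩) (fun f _ =>
      ⟨map_mem_wt f h4, ?_⟩) fun f _ hf => LinearMap.ext fun v => ?_)⟩
  · rw [SetLike.mem_coe, LinearMap.mem_ker, act_apply, ← map_smul, ← pow_one D, h5, map_zero]
  · obtain ⟨a, ha⟩ := Submodule.mem_span_singleton.1 v.2
    rw [show v = a • ⟨ε, hε⟩ from Subtype.ext ha.symm, map_smul, hf, smul_zero, LinearMap.zero_apply]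

variable [NeZero e] (hX : XS k p e t α κ D g)
include hX

omit [FiniteDimensional k X] in
theorem exists_maps (hS : Blk k D p ⊤ m u') (hu' : u' ∈ wt S (om α κ z)) {ι : Type*} [Fintype ι]
    (i a : ι → ℕ) (hi : Function.Injective i) (h1 : ∀ j, i j < e ∧ a j ≤ 2 * i j ∧ a j + m < p ∧
      2 * i j < a j + m ∧ -(i j : ZMod e) + a j = z) : ∃ f : ι → S →ₗ[k[G]] X,
    LinearIndependent k f ∧ ∀ j, f j u' - D ^ a j • g (i j) ∈ im k D (p - m) ⊤ := by
  classical
  choose F f1 f2 _ using fun j => h.lift (K := ⊤) trivial hu' hS.pos hS.zero hS.nmem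
    (h.pow_mem_wt' (hX.wt _ (h1 j).1) (h.om_add (h1 j).2.2.2.2))
    (by rw [pw rfl, pw0 (hX.zero _ (h1 j).1) (by have := h1 j; omega)])
  refine ⟨fun j => (f1 j).top, Fintype.linearIndependent_iff.2 fun c hc => by_contra fun h2 => ?_, f2⟩
  obtain ⟨j₁, h3, h4⟩ := exists_min_image (univ.filter (c · ≠ 0)) a (by simpa [Finset.Nonempty] using h2)
  obtain ⟨j, h5, h6⟩ := exists_max_image (univ.filter fun j => c j ≠ 0 ∧ a j = a j₁) i
    ⟨j₁, by simpa using h3⟩
  simp only [mem_filter, mem_univ, true_and] at h4 h5 h6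
  have h7 := h1 j
  have h8 : ∑ j, c j • F j u' = 0 := by
    simpa [LinearMap.sum_apply, Eqv.top] using LinearMap.congr_fun hc u'
  have h9 := pow_smul_mem_im (a := 2 * i j - a j) (c := 2 * i j + 1) (by omega)
    (sum_mem fun j (_ : j ∈ univ) => Submodule.smul_mem _ (c j) (f2 j))
  simp only [smul_sub, sum_sub_distrib, h8, zero_sub, smul_neg, neg_mem_iff, smul_sum] at h9
  rw [← add_sum_erase _ _ (mem_univ j), smul_comm, pw (show _ = 2 * i j by omega),
    add_mem_cancel_right (sum_mem fun j' hj' => ?_), Submodule.smul_mem_iff _ h5.1] at h9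
  · exact hX.nmem _ h7.1 h9
  rw [smul_comm, pw rfl]
  by_cases h10 : c j' = 0
  · simp [h10]
  refine Submodule.smul_mem _ _ ?_
  rcases (h4 j' h10).eq_or_lt with e | e
  · have := (h6 j' ⟨h10, e.symm⟩).lt_of_ne (hi.ne (ne_of_mem_erase hj'))
    rw [pw0 (hX.zero _ (h1 j').1) (by omega)]
    exact zero_mem _
  · exact mem_im_top (by omega) _

omit hX [NeZero e] [FiniteDimensional k X] in
theorem exists_mono [IsSimpleModule k[G] S] (hK : Blk k D p K n u) (hu : u ∈ wt U l)
    (hS : Blk k D p ⊤ m u') (hu' : u' ∈ wt S l') (hl : l' * α ^ q = l) (hq : n + q = m)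
    (hm : m < p) : ∃ (F : U →ₗ[k] S) (_ : Eqv K F), (∀ s, ∃ v ∈ K, F v = s) ∧
      F u ∉ im k D (p - n) ⊤ ∧ ∃ w ∈ K, w ∈ wt U l' ∧ F w - u' ∈ im k D (p - m) ⊤ ∧
        F u = D ^ q • F w := by
  have := Fintype.ofFinite E
  obtain ⟨F, f1, f2, -⟩ := h.lift hK.mem hu hK.pos hK.zero hK.nmem (h.pow_mem_wt' hu' hl)
    (by rw [pw hq, hS.zero])
  have h0 := hK.pos
  have f3 : F u ∉ im k D (p - n) ⊤ := fun e => hS.nmem' (a := q) (by omega)
    (im_anti (show q + 1 ≤ p - n by omega) (by simpa using sub_mem e f2))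
  have f4 := f1.surj hK.mem fun e => f3 (e ▸ zero_mem _)
  obtain ⟨s, -, hs⟩ := f2
  obtain ⟨w, hw, f5⟩ := f4 (u' + D ^ (p - m) • s)
  refine ⟨F, f1, f4, f3, pj l' • w, K.smul_mem _ hw, pj_mem w, ?_, ?_⟩
  · rw [f1 _ _ hw, f5, smul_add, h.pj_of_mem hu', add_sub_cancel_left]
    exact h.pj_mem_im (mem_im_top le_rfl s)
  · rw [f1 _ _ hw, ← h.pj_pow, hl, f5, smul_add, pw (show _ = p - n by omega),
      show D ^ (p - n) • s = _ from hs, add_sub_cancel,
      h.pj_of_mem (f1.map_mem_wt hK.mem hu)]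

theorem stepA [FiniteDimensional k U] [IsSimpleModule k[G] S] (h0 : u₀ ∈ wt U (om α κ z))
    (h1 : D ^ 1 • u₀ = 0) (h2 : D ^ (1 - 1) • u₀ ∉ im k D 1 ⊤) (hU : StA X D p u₀ (om α κ z) n B)
    (hS : Blk k D p ⊤ m u') (hu' : u' ∈ wt S (om α κ z')) (hz : z' + q = z) (hq : n + q = m)
    (hq0 : 0 < q) (hm : m < p) {ι : Type*} [Fintype ι] (i a : ι → ℕ) (hi : Function.Injective i)
    (h3 : ∀ j, i j < e ∧ a j ≤ 2 * i j ∧ a j + m < p ∧ 2 * i j < a j + m ∧
      -(i j : ZMod e) + a j = z') (h4 : ∀ j, 2 * i j ≤ q + a j) :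
    StA X D p u₀ (om α κ z) (p - q) (B + Fintype.card ι) := by
  obtain ⟨K, u, hK, hu, h5, hB⟩ := hU
  obtain ⟨F, f1, f2, -, w, hw, f3, f4, f5⟩ := h.exists_mono hK hu hS hu' (h.om_add hz) hq hm
  obtain ⟨f, f6, f7⟩ := h.exists_maps hX hS hu' i a hi h3
  refine ⟨_, _, hK.ker_mono h.pow_p hS f1 f2 hq hq0 hm hw f4 f5, sub_mem hu
    (h.pow_mem_wt' f3 (h.om_add hz)), ?_, (Nat.add_le_add_right hB _).trans
      (finrank_van_add f1 f2 f6 fun j => ?_)⟩
  · rw [sub_right_comm]
    exact sub_mem (im_anti (by omega) h5) (mem_im_top (by omega) w)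
  obtain ⟨F₀, g1, g2, -⟩ := h.lift (K := ⊤) trivial h0 one_pos h1 h2
    (h.pow_mem_wt' (m := q + a j) (hX.wt _ (h3 j).1) (h.om_add (z' := z) (by
      rw [← hz, ← (h3 j).2.2.2.2]; push_cast; ring)))
    (by rw [pw rfl, pw0 (hX.zero _ (h3 j).1) (by have := h4 j; omega)])
  obtain ⟨φ, hφ⟩ := h.extend hK (F := (f j).restrictScalars k ∘ₗ F - F₀) (fun b v hv => by
    simp [f1 b v hv, g1 b v trivial, smul_sub]) (by
      have := hK.pos
      have := sub_mem (sub_mem (pow_smul_mem_im (a := q) (c := p - n) (by omega)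
        (add_mem (map_mem_im (f j) f4) (f7 j))) (g1.map_mem_im h5))
        (im_anti (show p - n ≤ p - 1 by omega) g2)
      convert this using 1
      simp [f5, smul_sub, pw rfl]
      abel)
  exact ⟨φ + g1.top, fun v hv => by simp [hφ v hv, Eqv.top]⟩

theorem single [IsSimpleModule k[G] S] (ht : e * t + 1 = p) (h3 : 3 ≤ t) (he : 3 ≤ e)
    (hS : Blk k D p ⊤ (p - e) u') (hu' : u' ∈ wt S (om α κ z)) : False := by
  obtain ⟨I, u₀, h0, h1, h2, h4, h5⟩ := h.exists_start (X := X) (om α κ z)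
  have : FiniteDimensional k I := inferInstanceAs (FiniteDimensional k (I.restrictScalars k))
  obtain ⟨t, rfl⟩ := Nat.exists_eq_add_of_le' h3
  have hc := z.val_lt
  have hc' : ((z.val : ℕ) : ZMod e) = z := ZMod.natCast_zmod_val z
  have hc'' : -((e - z.val : ℕ) : ZMod e) = z := by rw [Nat.cast_sub hc.le, hc']; simp
  have step : ∀ {j j' B : ℕ}, j + j' = t + 1 → StA X D p u₀ (om α κ z) (e * j + 1) B →
      ∀ {b : ℕ} (i a : Fin b → ℕ), Function.Injective i → (∀ j, i j < e ∧ a j ≤ 2 * i j ∧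
        a j < e ∧ -(i j : ZMod e) + a j = z ∧ 2 * i j ≤ e * (j' + 1) + a j) →
      StA X D p u₀ (om α κ z) (e * (j + 1) + 1) (B + b) := fun {j j' B} hj hU b i a hi h6 => by
    have h7 : p = e * j + e * j' + 2 * e + 1 := by
      rw [← ht, show t + 3 = j + j' + 2 by omega]; ring
    have h8 : e ≤ e * j + e * j' := mul_add e j j' ▸ Nat.le_mul_of_pos_right e (by omega)
    convert h.stepA hX h0 h1 h2 hU hS hu' (q := e * (j' + 1)) (by simp) (by rw [mul_add]; omega)
      (by positivity) (by omega) i a hi (fun j => ⟨(h6 j).1, (h6 j).2.1, by have := h6 j; omega,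
        by have := h6 j; omega, (h6 j).2.2.2.1⟩) fun j => (h6 j).2.2.2.2 using 1
    · rw [mul_add, mul_add]; omega
    · simp
  have last : ∀ B, StA X D p u₀ (om α κ z) (e * (t + 1) + 1) B →
      B + 1 ≤ finrank k (wt X (om α κ z) ⊓ LinearMap.ker (act k X D) : Submodule k X) :=
    fun B hU => h5 _ _ (by
      rcases lt_or_ge (2 * z.val) e with h6 | h6
      · exact step (j' := 0) rfl hU ![z.val] ![2 * z.val] (Function.injective_of_subsingleton _)
          (Fin.forall_fin_one.2 (by simp [hc, h6, two_mul z]))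
      · exact step (j' := 0) rfl hU ![e - z.val] ![0] (Function.injective_of_subsingleton _)
          (Fin.forall_fin_one.2 ⟨show e - z.val < e by omega, Nat.zero_le _, show 0 < e by omega,
            by simpa using hc'', show 2 * (e - z.val) ≤ e * (0 + 1) + 0 by omega⟩))
  have all : ∀ {b : ℕ} (i a : Fin b → ℕ), Function.Injective i → (∀ j, i j < e ∧ a j ≤ 2 * i j ∧
      a j < e ∧ -(i j : ZMod e) + a j = z) → b * (t + 1) + 1 ≤
        finrank k (wt X (om α κ z) ⊓ LinearMap.ker (act k X D) : Submodule k X) :=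
    fun {b} i a hi h6 => by
      suffices H : ∀ j ≤ t + 1, StA X D p u₀ (om α κ z) (e * j + 1) (b * j) from last _ (H _ le_rfl)
      intro j
      induction j with
      | zero => exact fun _ => h4
      | succ j ih =>
        exact fun hj => step (j' := t - j + 1) (by omega) (ih (by omega)) i a hi fun j' =>
          ⟨(h6 j').1, (h6 j').2.1, (h6 j').2.2.1, (h6 j').2.2.2, by
            have := (h6 j').1
            rw [mul_add, mul_add]
            omega⟩
  rcases eq_or_ne z 0 with rfl | hz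
  · have := all ![0, 1, 2] ![0, 1, 2] (by decide) fun j => by fin_cases j <;> simp <;> omega
    have := hX.fix (om α κ (0 : ZMod e))
    omega
  have h6 := hX.fix' _ fun e => hz (h.om_inj (e.trans om_zero.symm))
  have h7 : z.val ≠ 0 := (ZMod.val_eq_zero z).not.2 hz
  rcases eq_or_ne z.val 1 with h8 | h8
  · have := all ![e - z.val, 1] ![0, 2] (fun a b => by fin_cases a <;> fin_cases b <;> simp <;> omega)
      fun j => by
        fin_cases j
        · exact ⟨show e - z.val < e by omega, Nat.zero_le _, show 0 < e by omega,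
            by simpa using hc''⟩
        · exact ⟨show 1 < e by omega, le_rfl, show 2 < e by omega, by
            rw [← hc', h8]; simp; norm_num⟩
    omega
  · have := all ![e - z.val, e - z.val + 1] ![0, 1] (fun a b => by
      fin_cases a <;> fin_cases b <;> simp) fun j => by
        fin_cases j
        · exact ⟨show e - z.val < e by omega, Nat.zero_le _, show 0 < e by omega,
            by simpa using hc''⟩
        · exact ⟨show e - z.val + 1 < e by omega, show 1 ≤ 2 * (e - z.val + 1) by omega,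
            show 1 < e by omega, by simpa using hc''⟩
    omega

theorem two [IsAlgClosed k] (hN : NS p x) (ht : e * 2 + 1 = p) (he : 5 ≤ e) : False := by
  obtain ⟨φ, h1, h2, -⟩ := h.fitting (hX.wt 1 (by omega)) (n := 3) (by omega) (by omega)
    (hX.zero 1 (by omega)) (hX.nmem 1 (by omega))
  obtain ⟨v, hv, h3⟩ := hN.exists_ne h h2 (by omega) (by omega)
  have := Fintype.ofFinite E
  obtain ⟨a, ha, b, hb, h4⟩ := Submodule.mem_sup.1 (h1.sup_eq_top ▸ Submodule.mem_top (x := g 2))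
  set l := om α κ (-((2 : ℕ) : ZMod e))
  have h5 : pj l • a + pj l • b = g 2 := by rw [← smul_add, h4, h.pj_of_mem (hX.wt 2 (by omega))]
  replace ha := Submodule.smul_mem _ (pj l) ha
  replace hb := Submodule.smul_mem _ (pj l) hb
  have h6 := pj_mem (l := l) a
  generalize pj l • a = a, pj l • b = b at *
  have h7 : D ^ 5 • a = 0 := Submodule.disjoint_def.1 h1.disjoint _ (Submodule.smul_mem _ _ ha) (by
    rw [eq_sub_of_add_eq h5, smul_sub, hX.zero 2 (by omega), zero_sub]
    exact neg_mem (Submodule.smul_mem _ _ hb))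
  obtain ⟨f, hf⟩ := h2.ker_pow h.pow_p (m := 5) (by omega) hb (by
    rw [eq_sub_of_add_eq' h5, smul_sub, hX.zero 2 (by omega), h7, sub_zero])
  have h8 := pow_smul_mem_im (a := 4) (c := 5) (by omega) hf
  rw [smul_sub, pw rfl, smul_smul, ((commute_aeval D f).pow_left _).eq, mul_smul,
    pw0 h2.zero (by omega), smul_zero, sub_zero] at h8
  have : FiniteDimensional k (LinearMap.ker φ) :=
    inferInstanceAs (FiniteDimensional k ((LinearMap.ker φ).restrictScalars k))
  obtain ⟨ψ, -, h9, -⟩ := h.fitting (u := (⟨a, ha⟩ : LinearMap.ker φ))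
    (fun g => Subtype.ext (h6 g)) (n := 5) (by omega) (by omega) (Subtype.ext h7) fun e =>
      hX.nmem 2 (by omega) (by
        rw [← h5, smul_add]
        exact add_mem (map_mem_im (LinearMap.ker φ).subtype e) (im_mono le_top h8))
  obtain ⟨w, -, h10⟩ := hN.exists_ne h h9 (by omega) (by omega)
  have h11 := hX.tot
  obtain ⟨s, hs⟩ := finrank_le_one_iff.1 (show finrank k (im k D (p - 1) (⊤ : Submodule k[G] X)) ≤ 1
    by omega)
  obtain ⟨c, hc⟩ := hs ⟨_, mem_im_top le_rfl v⟩
  obtain ⟨c', hc'⟩ := hs ⟨_, mem_im_top le_rfl (w : X)⟩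
  replace hc : c • (s : X) = D ^ (p - 1) • v := congrArg Subtype.val hc
  replace hc' : c' • (s : X) = D ^ (p - 1) • w := congrArg Subtype.val hc'
  have h12 : c ≠ 0 := fun e => h3 (by rw [← hc, e, zero_smul])
  refine h10 (Subtype.ext (Submodule.disjoint_def.1 h1.disjoint _ (D ^ (p - 1) • w).2 ?_))
  rw [Submodule.coe_smul, ← hc', ← inv_smul_smul₀ h12 (s : X), hc]
  exact Submodule.smul_of_tower_mem _ _ (Submodule.smul_of_tower_mem _ _ (Submodule.smul_mem _ _ hv))

end Ctx

end Cfsg.Lib.Blau
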