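import Cfsg.Agent.Lib.Blau.Nil
import Cfsg.Agent.Lib.Cyc.Three

/-!
# Stable homomorphisms for groups with a Sylow subgroup of prime order
-/

set_option autoImplicit false

namespace Cfsg.Lib.Blau

open Finset Module Polynomial Cfsg.Lib.Cyc Subgroup MonoidAlgebra Representation

variable {k G U X : Type*} [Field k] [Group G]
  [AddCommGroup U] [Module k U] [Module k[G] U] [IsScalarTower k k[G] U]
  [AddCommGroup X] [Module k X] [Module k[G] X] [IsScalarTower k k[G] X]
  {p e m n : ℕ} {x y : G} {E : Subgroup G} {α l : E →* kˣ} {D : k[G]} {K : Submodule k[G] U}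
  {u v w : U} {ξ : X}

variable (k G U) in
/-- The representation of a module over the group algebra. -/
noncomputable def rep : Representation k G U :=
  ((Algebra.lsmul k k U : k[G] →ₐ[k] End k U) : k[G] →* End k U).comp (of k G)

theorem rep_apply (g : G) (v : U) : rep k G U g v = of k G g • v := rfl

theorem eqv_of_of {F : U →ₗ[k] X} (h : ∀ g, ∀ v ∈ K, F (of k G g • v) = of k G g • F v) :
    Eqv K F := fun a v hv => by
  induction a using MonoidAlgebra.induction_on with
  | of g => exact h g v hv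
  | add a b ha hb => rw [add_smul, map_add, ha, hb, add_smul]
  | smul r a ha => rw [smul_assoc, map_smul, ha, smul_assoc]

theorem eqv_of_linHom {F : U →ₗ[k] X} (h : ∀ g, linHom (rep k G U) (rep k G X) g F = F) :
    Eqv (⊤ : Submodule k[G] U) F := eqv_of_of fun g v _ => by
  have := LinearMap.congr_fun (h g) (rep k G U g v)
  rw [linHom_apply, LinearMap.comp_apply, LinearMap.comp_apply, inv_self_apply] at this
  exact this.symm

theorem of_inv_smul (g : G) (v : U) : of k G g⁻¹ • of k G g • v = v := by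
  rw [smul_smul, ← map_mul, inv_mul_cancel, map_one, one_smul]

theorem of_smul_inv (g : G) (v : U) : of k G g • of k G g⁻¹ • v = v := by
  rw [smul_smul, ← map_mul, mul_inv_cancel, map_one, one_smul]

variable (U) in
/-- The weight space. -/
def wt (l : E →* kˣ) : Submodule k U where
  carrier := {v | ∀ h : E, of k G h • v = (l h : k) • v}
  add_mem' ha hb h := by rw [smul_add, ha h, hb h, smul_add]
  zero_mem' h := by rw [smul_zero, smul_zero]
  smul_mem' c v hv h := by rw [smul_comm, hv h, smul_comm]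

theorem Eqv.map_mem_wt {F : U →ₗ[k] X} (hF : Eqv K F) (hv : v ∈ K) (h : v ∈ wt U l) :
    F v ∈ wt X l := fun g => by rw [← hF _ _ hv, h g, map_smul]

theorem map_mem_wt (F : U →ₗ[k[G]] X) (h : v ∈ wt U l) : F v ∈ wt X l := fun g => by
  rw [← F.map_smul, h g, F.map_smul_of_tower]

theorem wt_eq_of_ne {l' : E →* kˣ} (h : v ∈ wt U l) (h' : v ∈ wt U l') (hv : v ≠ 0) : l = l' :=
  MonoidHom.ext fun g => Units.ext (smul_left_injective k hv ((h g).symm.trans (h' g)))

/-- The projection to the weight space. -/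
noncomputable def pj [Fintype E] (l : E →* kˣ) : k[G] :=
  (Nat.card E : k)⁻¹ • ∑ h : E, (l h⁻¹ : k) • of k G h

theorem pj_mem [Fintype E] (v : U) : pj l • v ∈ wt U l := fun g => by
  rw [pj, smul_assoc, smul_comm, smul_comm (l g : k), sum_smul]
  congr 1
  rw [smul_sum, smul_sum]
  refine Fintype.sum_equiv (Equiv.mulLeft g) _ _ fun h => ?_
  simp only [Equiv.coe_mulLeft, smul_assoc, mul_inv_rev, map_mul, map_inv, Subgroup.coe_mul,
    mul_smul, Units.val_mul, smul_comm (of k G g) (_ : k), Units.val_inv_eq_inv_val]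
  rw [smul_comm (l g : k), smul_inv_smul₀ (l g).ne_zero]

/-- The setting: `⟨x⟩` is a Sylow subgroup of order `p` with abelian complement `E` in its
normalizer, and `D` is a generator of the augmentation ideal of `⟨x⟩` of weight `α`. -/
structure Ctx (p e : ℕ) (x : G) (E : Subgroup G) (α : E →* kˣ) (D : k[G]) : Prop where
  ox : orderOf x = p
  sq : ¬ p ^ 2 ∣ Nat.card G
  card : (Nat.card E : k) ≠ 0
  comm : ∀ a b : E, a * b = b * a
  norm : ∀ g ∈ normalizer (zpowers x : Set G), ∃ (h : E) (i : ℕ), g = h * x ^ i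
  ord : orderOf α = e
  conj : ∀ h : E, of k G h * D = (α h : k) • (D * of k G h)
  Dτ' : ∃ q : k[X], D = (of k G x - 1) * aeval (of k G x - 1) q
  τD : ∃ q : k[X], of k G x - 1 = D * aeval D q

namespace Ctx

variable (h : Ctx p e x E α D)
include h

theorem Dτ : ∃ w, Commute (of k G x - 1) w ∧ D = (of k G x - 1) * w :=
  h.Dτ'.elim fun q hq => ⟨_, commute_aeval _ q, hq⟩

theorem map_D {F : U →ₗ[k] X} (hF : ∀ v, F (of k G x • v) = of k G x • F v) (v : U) :
    F (D • v) = D • F v := by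
  obtain ⟨q, hq⟩ := h.Dτ'
  have h1 : ∀ v, F ((of k G x - 1) • v) = (of k G x - 1) • F v := fun v => by
    rw [sub_smul, sub_smul, map_sub, hF, one_smul, one_smul]
  rw [hq, mul_smul, mul_smul, h1, map_aeval_smul h1]

theorem conj_pow (g : E) (m : ℕ) : of k G g * D ^ m = ((α ^ m) g : k) • (D ^ m * of k G g) := by
  induction m with
  | zero => simp
  | succ m ih =>
    rw [pow_succ, ← mul_assoc, ih, smul_mul_assoc, mul_assoc, h.conj, mul_smul_comm, smul_smul,
      ← mul_assoc, pow_succ α, MonoidHom.mul_apply, Units.val_mul]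

theorem pow_mem_wt (hv : v ∈ wt U l) (m : ℕ) : D ^ m • v ∈ wt U (l * α ^ m) := fun g => by
  rw [smul_smul, h.conj_pow, smul_assoc, mul_smul, hv g, smul_comm (D ^ m), smul_smul,
    MonoidHom.mul_apply, Units.val_mul, mul_comm]

theorem pow_mem_wt' {l' : E →* kˣ} (hv : v ∈ wt U l) (e : l * α ^ m = l') : D ^ m • v ∈ wt U l' :=
  e ▸ h.pow_mem_wt hv m

theorem pj_of_mem [Fintype E] (hv : v ∈ wt U l) : pj l • v = v := by
  rw [pj, smul_assoc, sum_smul, sum_congr rfl fun g _ => by
    rw [smul_assoc, hv g, smul_smul, ← Units.val_mul, ← map_mul, inv_mul_cancel, map_one,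
      Units.val_one, one_smul], sum_const, card_univ, ← Nat.card_eq_fintype_card,
    ← Nat.cast_smul_eq_nsmul k, inv_smul_smul₀ h.card]

theorem pj_pow [Fintype E] (m : ℕ) (v : U) : pj (l * α ^ m) • D ^ m • v = D ^ m • pj l • v := by
  rw [pj, pj, smul_assoc, smul_assoc, smul_comm (D ^ m), sum_smul, sum_smul]
  congr 1
  rw [smul_sum]
  refine sum_congr rfl fun g _ => ?_
  rw [smul_assoc, smul_assoc, smul_smul (of k G _), h.conj_pow, smul_assoc, smul_smul,
    smul_comm (D ^ m), MonoidHom.mul_apply, ← Units.val_mul, mul_assoc, ← map_mul, inv_mul_cancel,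
    map_one, mul_one, mul_smul]

theorem exists_wt_of_im [Finite G] (hv : v ∈ im k D m K) (h1 : v ∈ wt U (l * α ^ m)) :
    ∃ w ∈ K, w ∈ wt U l ∧ D ^ m • w = v := by
  have := Fintype.ofFinite E
  obtain ⟨w, hw, rfl⟩ := hv
  exact ⟨pj l • w, K.smul_mem _ hw, pj_mem w, (h.pj_pow m w).symm.trans (h.pj_of_mem h1)⟩

theorem pj_mem_im [Fintype E] (hv : v ∈ im k D m K) : pj l • v ∈ im k D m K := by
  obtain ⟨w, hw, rfl⟩ := hv
  rw [act_apply, ← inv_mul_cancel_right l (α ^ m), h.pj_pow]
  exact smul_mem_im (K.smul_mem _ hw)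

theorem exists_pj [Fintype E] [IsAlgClosed k] {W : Submodule k U} (hv : v ∉ W) :
    ∃ l : E →* kˣ, pj l • v ∉ W := by
  classical
  letI : CommGroup E := { (inferInstance : Group E) with mul_comm := h.comm }
  have : NeZero (Monoid.exponent E : k) := ⟨fun e => h.card (by
    obtain ⟨c, hc⟩ := Group.exponent_dvd_nat_card (G := E)
    rw [hc, Nat.cast_mul, e, zero_mul])⟩
  have h1 := CommGroup.card_monoidHom_of_hasEnoughRootsOfUnity E k
  have : Finite (E →* kˣ) := Nat.finite_of_card_ne_zero (h1 ▸ Nat.card_pos.ne')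
  have := Fintype.ofFinite (E →* kˣ)
  by_contra! h2
  refine hv (Eq.mpr (congrArg (· ∈ W) ?_) (sum_mem fun l (_ : l ∈ univ) => h2 l))
  simp only [pj, ← sum_smul, ← smul_sum]
  rw [sum_comm, sum_eq_single 1 (fun g _ hg => ?_) (by simp)]
  · simp [← Nat.card_eq_fintype_card, h1, ← Nat.cast_smul_eq_nsmul k, inv_smul_smul₀ h.card,
      ← MonoidAlgebra.one_def]
  · obtain ⟨φ, hφ⟩ := CommGroup.exists_apply_ne_one_of_hasEnoughRootsOfUnity E k (inv_ne_one.2 hg)
    have h3 : (φ g⁻¹ : k) * ∑ l : E →* kˣ, (l g⁻¹ : k) = ∑ l : E →* kˣ, (l g⁻¹ : k) := by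
      rw [mul_sum]
      exact Fintype.sum_equiv (Equiv.mulLeft φ) _ _ fun _ => rfl
    rw [← sum_smul, eq_zero_of_mul_eq_self_left (mt Units.val_eq_one.1 hφ) h3, zero_smul]

theorem commute_of [Finite G] (hy : y ∈ zpowers x) : Commute D (of k G y) := by
  obtain ⟨q, hq⟩ := h.τD
  obtain ⟨i, rfl⟩ := mem_powers_iff_mem_zpowers.2 hy
  have : Commute D (of k G x) := eq_add_of_sub_eq hq ▸
    ((Commute.refl D).mul_right (commute_aeval D q)).add_right (Commute.one_right D)
  simpa only [map_pow] using this.pow_right i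

theorem map_of {F : U →ₗ[k] X} (hF : ∀ v, F (D • v) = D • F v) [Finite G] (hy : y ∈ zpowers x)
    (v : U) : F (of k G y • v) = of k G y • F v := by
  obtain ⟨q, hq⟩ := h.τD
  have h1 := map_aeval_smul hF
  obtain ⟨i, rfl⟩ := mem_powers_iff_mem_zpowers.2 hy
  induction i generalizing v with
  | zero => simp only [pow_zero, map_one, one_smul]
  | succ i ih =>
    simp only [pow_succ, map_mul, mul_smul]
    rw [ih _ (pow_mem (mem_zpowers x) i), eq_add_of_sub_eq hq, add_smul, add_smul, one_smul,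
      one_smul, map_add, mul_smul, mul_smul, hF, h1]

theorem of_smul_eq [Finite G] (hv : D • v = 0) (hy : y ∈ zpowers x) : of k G y • v = v := by
  obtain ⟨q, hq⟩ := h.τD
  obtain ⟨i, rfl⟩ := mem_powers_iff_mem_zpowers.2 hy
  exact map_pow_of_fix (rep k G U) (by
    rw [LinearMap.sub_apply, rep_apply, End.one_apply, eq_add_of_sub_eq hq, add_smul, one_smul,
      add_sub_cancel_right, (commute_aeval D q).eq, mul_smul, hv, smul_zero]) i

theorem smul_eq_zero (hv : of k G x • v = v) : D • v = 0 := by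
  obtain ⟨w, h1, h2⟩ := h.Dτ
  rw [h2, h1.eq, mul_smul, sub_smul, hv, one_smul, sub_self, smul_zero]

theorem τ_pow_mem (m : ℕ) (hv : v ∈ K) : (of k G x - 1) ^ m • v ∈ im k D m K := by
  obtain ⟨q, hq⟩ := h.τD
  rw [hq, (commute_aeval D q).mul_pow, mul_smul]
  exact smul_mem_im (K.smul_mem _ hv)

theorem conj_pow_mem [Finite G] (θ : U →ₗ[k] X) (m : ℕ) {j : ℕ} (hu : D ^ n • u = 0)
    (hj : j ≤ m + 1 - n) :
    ((linHom (rep k G U) (rep k G X) x - 1) ^ m) θ u ∈ im k D j (⊤ : Submodule k[G] X) := by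
  obtain ⟨q, hq⟩ := h.τD
  induction m generalizing n j u with
  | zero =>
    rcases j with _ | j
    · exact ⟨θ u, trivial, by simp⟩
    · obtain rfl : n = 0 := by omega
      simp [show u = 0 by simpa using hu]
  | succ m ih =>
    have h1 := h.commute_of (inv_mem (mem_zpowers x))
    have h2 : D ^ n • of k G x⁻¹ • u = 0 := by
      rw [smul_smul, (h1.pow_left n).eq, mul_smul, hu, smul_zero]
    rw [pow_succ', End.mul_apply, LinearMap.sub_apply, End.one_apply, LinearMap.sub_apply,
      linHom_apply, LinearMap.comp_apply, LinearMap.comp_apply, rep_apply, rep_apply]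
    set ψ := ((linHom (rep k G U) (rep k G X) x - 1) ^ m) θ
    rw [show of k G x • ψ (of k G x⁻¹ • u) - ψ u = (of k G x - 1) • ψ (of k G x⁻¹ • u) -
      ψ ((of k G x - 1) • of k G x⁻¹ • u) by simp [sub_smul, of_smul_inv, -of_apply]]
    refine sub_mem ?_ ?_
    · rw [hq, mul_smul]
      simpa only [pow_one] using pow_smul_mem_im (a := 1) (b := j - 1) (c := j) (by omega)
        (comm_smul_mem_im (commute_aeval D q) (ih (j := j - 1) h2 (by omega)))
    · rcases n with _ | n
      · simp [show u = 0 by simpa using hu]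
      · exact ih (n := n) (by rw [hq, smul_smul, ← mul_assoc, ← pow_succ,
          ((commute_aeval D q).pow_left _).eq, mul_smul, h2, smul_zero]) (by omega)

variable [hp : Fact p.Prime] [CharP k p]

theorem pow_p : D ^ p = 0 := by
  obtain ⟨w, h1, h2⟩ := h.Dτ
  have := sub_one_pow_eq (k := k) (p := p) (of k G x) 1
  rw [pow_one, ← map_pow, ← h.ox, pow_orderOf_eq_one, map_one, sub_self, h.ox] at this
  rw [h2, h1.mul_pow, this, zero_mul]

variable [Finite G]

/-- Stable homomorphisms from a block lift from the normalizer to the group. -/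
theorem lift_top (hu : u ∈ wt U l) (h0 : D ^ (n + 1) • u = 0)
    (h1 : D ^ n • u ∉ im k D (n + 1) ⊤) (hξ : ξ ∈ wt X l) (h2 : D ^ (n + 1) • ξ = 0) :
    ∃ F : U →ₗ[k] X, Eqv (⊤ : Submodule k[G] U) F ∧
      F u - ξ ∈ im k D (p - (n + 1)) (⊤ : Submodule k[G] X) ∧ ∀ v, D • v = 0 →
      ∃ c : k, F v - c • D ^ n • ξ ∈ im k D (p - 1) (⊤ : Submodule k[G] X) := by
  classical
  have := Fintype.ofFinite (zpowers x)
  obtain ⟨hi, hfree⟩ := ti_of_not_sq_dvd h.ox h.sq
  obtain ⟨f, f1, f2, f3⟩ := exists_dual h0 h1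
  set β := nm D (n + 1) (f.smulRight ξ) with hβ
  have b1 : ∀ y ∈ zpowers x, ∀ v, β (of k G y • v) = of k G y • β v := fun y hy =>
    h.map_of (fun v => nm_smul _ (by simp [f1]) (by simp [smul_comm _ (f v), h2])) hy
  have b2 : β u = ξ := by
    rw [nm_apply, sum_range_succ, sum_eq_zero fun i hi => by simp [f3 i (mem_range.1 hi)]]
    simp [f2]
  have b3 : ∀ v, D • v = 0 → β v = f v • D ^ n • ξ := fun v hv => by
    rw [nm_apply, sum_range_succ', sum_eq_zero fun i _ => by simp [← pw1' rfl, hv]]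
    simp [smul_comm (f v)]
  obtain ⟨s, s1, s2, s3⟩ := exists_trace (linHom (rep k G U) (rep k G X)) le_normalizer hfree
  obtain ⟨w, hw⟩ := s3 β fun y hy => LinearMap.ext fun v => by
    rw [linHom_apply, LinearMap.comp_apply, LinearMap.comp_apply, rep_apply, rep_apply,
      b1 _ (inv_mem hy), of_smul_inv]
  have h6 : (#s : k) ≠ 0 := mt (CharP.cast_eq_zero_iff k p _).1 (s2 ▸ hi)
  rw [sum_zpowers_eq _ (h.ox.trans (pow_one p).symm), pow_one] at hw
  refine ⟨(#s : k)⁻¹ • _, eqv_of_linHom fun g => by rw [map_smul, hw g], ?_, fun v hv => ?_⟩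
  · rw [LinearMap.smul_apply, LinearMap.add_apply, LinearMap.sum_apply,
      sum_congr rfl (g := fun _ => ξ) fun g hg => ?_, sum_const, ← Nat.cast_smul_eq_nsmul k,
      smul_add, inv_smul_smul₀ h6, add_sub_cancel_left]
    · exact Submodule.smul_mem _ _ (h.conj_pow_mem w _ h0 (by have := hp.out.pos; omega))
    obtain ⟨a, i, rfl⟩ := h.norm g (s1 g hg)
    rw [linHom_apply, LinearMap.comp_apply, LinearMap.comp_apply, rep_apply, rep_apply, mul_inv_rev,
      map_mul, map_mul, mul_smul, mul_smul, b1 _ (inv_mem (pow_mem (mem_zpowers x) i)),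
      of_smul_inv, ← Subgroup.coe_inv, hu, map_smul, b2, ← hξ, Subgroup.coe_inv, of_smul_inv]
  · have h7 : ∀ g : s, ∃ c : k, linHom (rep k G U) (rep k G X) g β v = c • D ^ n • ξ := fun g => by
      obtain ⟨a, i, e⟩ := h.norm g (s1 g g.2)
      have h7 : D • of k G (a : G)⁻¹ • v = 0 := by
        have := congrArg (· • v) (h.conj a⁻¹)
        simp only [smul_assoc, mul_smul, hv, smul_zero] at this
        exact (smul_eq_zero_iff_right (α a⁻¹).ne_zero).1 this.symm
      refine ⟨f (of k G (a : G)⁻¹ • v) * (l * α ^ n) a, ?_⟩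
      rw [linHom_apply, LinearMap.comp_apply, LinearMap.comp_apply, rep_apply, rep_apply, e,
        mul_inv_rev, map_mul, map_mul, mul_smul, mul_smul,
        b1 _ (inv_mem (pow_mem (mem_zpowers x) i)), of_smul_inv, b3 _ h7, smul_comm,
        h.pow_mem_wt hξ n a, mul_smul]
    choose c hc using h7
    refine ⟨(#s : k)⁻¹ * ∑ g, c g, ?_⟩
    rw [LinearMap.smul_apply, LinearMap.add_apply, LinearMap.sum_apply, ← sum_coe_sort s,
      sum_congr rfl fun g _ => hc g, ← sum_smul, smul_add, smul_smul, add_sub_cancel_left]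
    exact Submodule.smul_mem _ _ (h.conj_pow_mem (n := 1) w _ (by rwa [pow_one])
      (by have := hp.out.pos; omega))

theorem lift (hK : u ∈ K) (hu : u ∈ wt U l) (hn : 0 < n) (h0 : D ^ n • u = 0)
    (h1 : D ^ (n - 1) • u ∉ im k D n K) (hξ : ξ ∈ wt X l) (h2 : D ^ n • ξ = 0) :
    ∃ F : U →ₗ[k] X, Eqv K F ∧ F u - ξ ∈ im k D (p - n) (⊤ : Submodule k[G] X) ∧
      ∀ v ∈ K, D • v = 0 →
      ∃ c : k, F v - c • D ^ (n - 1) • ξ ∈ im k D (p - 1) (⊤ : Submodule k[G] X) := by
  obtain ⟨n, rfl⟩ := Nat.exists_eq_succ_of_ne_zero hn.ne'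
  obtain ⟨F, h3, h4, h5⟩ := h.lift_top (u := (⟨u, hK⟩ : K)) (fun g => Subtype.ext (hu g))
    (Subtype.ext h0) (fun ⟨w, _, e⟩ => h1 ⟨w, w.2, congrArg Subtype.val e⟩) hξ h2
  obtain ⟨F', h6, h7⟩ := exists_eqv (k := k) h3.top
  exact ⟨F', h6, by rw [h7 u hK]; exact h4, fun v hv e => by
    rw [h7 v hv]; exact h5 ⟨v, hv⟩ (Subtype.ext e)⟩

/-- A homomorphism which is projective on the block extends. -/
theorem extend [FiniteDimensional k U] (hK : Blk k D p K n u) {F : U →ₗ[k] X} (hF : Eqv K F)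
    (hu : F u ∈ im k D (p - n) (⊤ : Submodule k[G] X)) :
    ∃ g : U →ₗ[k[G]] X, ∀ v ∈ K, g v = F v := by
  classical
  obtain ⟨θ, hθ⟩ := hK.exists_nm h.pow_p hF hu
  have := Fintype.ofFinite (G ⧸ zpowers x)
  let Φ : G ⧸ zpowers x → U →ₗ[k] X := fun q => linHom (rep k G U) (rep k G X) q.out (nm D p θ)
  have h1 : ∀ g : G, Φ g = linHom (rep k G U) (rep k G X) g (nm D p θ) := fun g => by
    obtain ⟨y, hy⟩ := QuotientGroup.mk_out_eq_mul (zpowers x) g
    simp only [Φ, hy, map_mul, End.mul_apply]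
    refine congrArg _ (LinearMap.ext fun v => ?_)
    rw [linHom_apply, LinearMap.comp_apply, LinearMap.comp_apply, rep_apply, rep_apply,
      h.map_of (fun v => nm_smul _ (by simp [h.pow_p]) (by simp [h.pow_p])) (inv_mem y.2),
      of_smul_inv]
  have h2 : (Fintype.card (G ⧸ zpowers x) : k) ≠ 0 := mt (CharP.cast_eq_zero_iff k p _).1 fun e =>
    h.sq (by
      rw [← (zpowers x).card_mul_index, Nat.card_zpowers, h.ox, pow_two, index_eq_card,
        Nat.card_eq_fintype_card]
      exact mul_dvd_mul_left p e)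
  refine ⟨(eqv_of_linHom (F := (Fintype.card (G ⧸ zpowers x) : k)⁻¹ • ∑ q, Φ q) fun g => ?_).top,
    fun v hv => ?_⟩
  · rw [map_smul, map_sum]
    refine congrArg _ (Fintype.sum_equiv (MulAction.toPerm g) _ _ fun q => ?_)
    induction q using QuotientGroup.induction_on with
    | H a => rw [MulAction.toPerm_apply, MulAction.Quotient.smul_mk, h1, h1, smul_eq_mul, map_mul,
      End.mul_apply]
  · change ((Fintype.card (G ⧸ zpowers x) : k)⁻¹ • ∑ q, Φ q) v = F v
    rw [LinearMap.smul_apply, LinearMap.sum_apply, sum_congr rfl (g := fun _ => F v) fun q _ => by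
      simp only [Φ]
      rw [linHom_apply, LinearMap.comp_apply, LinearMap.comp_apply, rep_apply, rep_apply,
        hθ _ (K.smul_mem _ hv), hF _ _ hv, of_smul_inv], sum_const, card_univ,
      ← Nat.cast_smul_eq_nsmul k, inv_smul_smul₀ h2]

/-- The regular module is free. -/
theorem free {a : k[G]} (ha : D • a = 0) : a ∈ im k D (p - 1) (⊤ : Submodule k[G] k[G]) := by
  classical
  have := Fintype.ofFinite G
  have := Fintype.ofFinite (zpowers x)
  obtain ⟨T, hT⟩ := OddChar.exists_sum_eq_of_free (P := zpowers x) (fun _ : G => True)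
    (fun _ _ _ => trivial) fun y g _ e => Subtype.ext (mul_eq_right.1 e)
  have h1 := hT fun g => single g (a.coeff g)
  have h2 := sum_zpowers_eq (rep k G k[G]) (h.ox.trans (pow_one p).symm)
    (∑ t ∈ T, single t (a.coeff t))
  rw [filter_true_of_mem fun _ _ => trivial, ← Finsupp.sum_fintype _ _ (by simp),
    sum_coeff_single] at h1
  have h3 := h.τ_pow_mem (K := ⊤) (p - 1) (v := (∑ t ∈ T, single t (a.coeff t) : k[G])) trivial
  convert h3 using 1
  refine h1.trans ((sum_congr rfl fun y _ => ?_).trans (h2.trans ?_))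
  · rw [map_sum]
    refine sum_congr rfl fun t _ => ?_
    have := congrArg (·.coeff (y * t)) (h.of_smul_eq ha y.2)
    simp only [of_apply, smul_eq_mul, coeff_single_mul_mul, one_mul] at this
    simp [rep_apply, single_mul_single, this, Subgroup.smul_def]
  · rw [pow_one]
    exact LinearMap.congr_fun (by simp [rep] : (rep k G k[G] x - 1) ^ (p - 1) =
      Algebra.lsmul k k k[G] ((of k G x - 1) ^ (p - 1))) _

end Ctx

end Cfsg.Lib.Blau
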