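import Cfsg.Agent.Lib.Blau.Count
import Cfsg.Agent.Lib.Blau.Ad

/-!
# The space of linear maps between two blocks of size `p - e`
-/

set_option autoImplicit false

namespace Cfsg.Lib.Blau

open Finset Module Polynomial Cfsg.Lib.Cyc Subgroup MonoidAlgebra Representation

variable {k G U V : Type*} [Field k] [Group G]
  [AddCommGroup U] [Module k U] [AddCommGroup V] [Module k V] {p e t d m n : ℕ}

/-- The module of a representation. -/
def Md (_ : Representation k G V) : Type _ := V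

section

variable (ρ : Representation k G V)

instance Md.addCommGroup : AddCommGroup (Md ρ) := ‹_›

instance Md.module : Module k (Md ρ) := ‹_›

noncomputable instance Md.module' : Module k[G] (Md ρ) :=
  Module.compHom V ρ.asAlgebraHom.toRingHom

instance Md.tower : IsScalarTower k k[G] (Md ρ) :=
  ⟨fun c a v => LinearMap.congr_fun (map_smul ρ.asAlgebraHom c a) v⟩

/-- The underlying vector space. -/
def Md.ev : Md ρ ≃ₗ[k] V := LinearEquiv.refl k V

theorem Md.ev_of (g : G) (v : Md ρ) : Md.ev ρ (of k G g • v) = ρ g (Md.ev ρ v) :=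
  LinearMap.congr_fun (ρ.asAlgebraHom_of g) v

instance Md.finite [FiniteDimensional k V] : FiniteDimensional k (Md ρ) := ‹_›

end

variable [Module k[G] U] [IsScalarTower k k[G] U] [Module k[G] V] [IsScalarTower k k[G] V]
  {x : G} {E : Subgroup G} {α κ l l₁ l₂ : E →* kˣ} {D : k[G]} {u : U} {v : V}

variable (k G U V) in
/-- The space of linear maps as a module. -/
abbrev HM := Md (linHom (rep k G U) (rep k G V))

/-- The underlying linear map. -/
noncomputable def ev : HM k G U V ≃ₗ[k] (U →ₗ[k] V) := Md.ev _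

theorem ev_of (g : G) (ψ : HM k G U V) (w : U) :
    ev (of k G g • ψ) w = of k G g • ev ψ (of k G g⁻¹ • w) :=
  LinearMap.congr_fun (Md.ev_of _ g ψ) w

theorem commute_aeval' {A : Type*} [Ring A] [Algebra k A] {a b : A} (h : Commute a b) (f : k[X]) :
    Commute a (aeval b f) := by
  induction f using Polynomial.induction_on with
  | C c => exact aeval_C b c ▸ (Algebra.commutes c a).symm
  | add f g hf hg => exact map_add (aeval b) f g ▸ hf.add_right hg
  | monomial n c ih =>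
    rw [pow_succ, ← mul_assoc, map_mul, aeval_X]
    exact ih.mul_right h

theorem Blk.exists_basis (hU : Blk k D p ⊤ d u) (hd : finrank k U = d) :
    ∃ b : Basis (Fin d) k U, ∀ j, b j = D ^ j.1 • u := by
  have : Nonempty (Fin d) := ⟨⟨0, hU.pos⟩⟩
  exact ⟨basisOfLinearIndependentOfCardEqFinrank hU.linearIndependent (by simp [hd]),
    fun j => by simp⟩

theorem Blk.exists_aeval (hU : Blk k D p ⊤ d u) (hd : finrank k U = d) (w : U) :
    ∃ f : k[X], w = aeval D f • u := by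
  obtain ⟨b, hb⟩ := hU.exists_basis hd
  refine ⟨∑ j, C (b.repr w j) * Polynomial.X ^ j.1, (b.sum_repr w).symm.trans ?_⟩
  simp only [map_sum, map_mul, aeval_C, map_pow, aeval_X, sum_smul, mul_smul, algebraMap_smul, hb]

theorem Blk.pow_smul (hU : Blk k D p ⊤ d u) (hd : finrank k U = d) (w : U) : D ^ d • w = 0 := by
  obtain ⟨f, rfl⟩ := hU.exists_aeval hd w
  rw [smul_smul, ((commute_aeval D f).pow_left d).eq, mul_smul, hU.zero, smul_zero]

theorem Blk.ext (hU : Blk k D p ⊤ d u) (hd : finrank k U = d) {F F' : U →ₗ[k] V}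
    (hF : ∀ w, F (D • w) = D • F w) (hF' : ∀ w, F' (D • w) = D • F' w) (h : F u = F' u) : F = F' :=
  LinearMap.ext fun w => by
    obtain ⟨f, rfl⟩ := hU.exists_aeval hd w
    rw [map_aeval_smul hF, map_aeval_smul hF', h]

theorem Blk.le_finrank_im (hV : Blk k D p ⊤ d v) [FiniteDimensional k V] (i : ℕ) :
    d - i ≤ finrank k (im k D i (⊤ : Submodule k[G] V)) := by
  have := (hV.linearIndependent.comp (fun j : Fin (d - i) => ⟨i + j, by omega⟩)
    fun a b h => Fin.ext (by simpa using h))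
  rw [← Fintype.card_fin (d - i), ← finrank_span_eq_card this]
  exact Submodule.finrank_mono (Submodule.span_le.2 (Set.range_subset_iff.2 fun j =>
    mem_im_top (Nat.le_add_right i j) v))

theorem ev_mem_wt {ψ : HM k G U V} (hψ : ψ ∈ wt _ l) (hu : u ∈ wt U l₁) :
    ev ψ u ∈ wt V (l * l₁) := fun g => by
  have := ev_of (g : G) ψ (of k G g • u)
  rw [of_inv_smul, hψ g, hu g, map_smul, map_smul, LinearMap.smul_apply, smul_smul, mul_comm] at this
  exact this.symm

theorem ev_pow (a : HM k G U V) (ha : ∀ w, ev a (of k G x • w) = of k G x • ev a w) (m : ℕ)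
    (c : End k U) : (of k G x - 1) ^ m • (ev.symm (ev a ∘ₗ c) : HM k G U V) =
      ev.symm (ev a ∘ₗ (cD (rep k G U) x ^ m) c) := by
  induction m generalizing c with
  | zero => rw [pow_zero, pow_zero, one_smul, End.one_apply]
  | succ m ih =>
    rw [pow_succ, mul_smul, pow_succ, End.mul_apply, ← ih]
    refine congrArg _ (ev.injective (LinearMap.ext fun z => ?_))
    rw [sub_smul, map_sub, LinearMap.sub_apply, ev_of, one_smul]
    simp only [LinearEquiv.apply_symm_apply, LinearMap.comp_apply, LinearMap.sub_apply, ← ha,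
      linHom_apply, rep_apply, End.one_apply, map_sub]

namespace Ctx

variable (h : Ctx p e x E α D)
include h

theorem finrank_wt_le (hV : Blk k D p ⊤ d v) (hd : finrank k V = d) (hv : v ∈ wt V l₂)
    (ht : e * t + 1 = d) (he : e ≠ 0) (m : ℕ) (W : Submodule k V)
    (hW : ∀ w ∈ W, w ∈ wt V l ∧ w ∈ im k D (e * m) ⊤) :
    finrank k W ≤ t + 1 - m ∧ (l ≠ l₂ → finrank k W ≤ t - m) := by
  classical
  obtain ⟨b, hb⟩ := hV.exists_basis hd
  obtain ⟨c, rfl⟩ : ∃ c, l = l₂ * c := ⟨_, (mul_inv_cancel_left l₂ l).symm⟩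
  set s := univ.filter fun j : Fin d => e * m ≤ j ∧ α ^ j.1 = c
  have h1 : finrank k W ≤ #s := by
    have := FiniteDimensional.span_of_finite k (s.finite_toSet.image b)
    refine (Submodule.finrank_mono (t := Submodule.span k (b '' s)) fun w hw =>
      b.mem_span_image.2 fun j hj => ?_).trans ((finrank_span_le_card _).trans
        (by simpa using card_image_le))
    replace hj : b.repr w j ≠ 0 := Finsupp.mem_support_iff.1 hj
    refine mem_coe.2 (mem_filter.2 ⟨mem_univ j, not_lt.1 fun h2 => hj ?_, mul_left_cancel (a := l₂)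
      (MonoidHom.ext fun g => Units.ext (mul_right_cancel₀ hj ?_))⟩)
    · obtain ⟨w, -, rfl⟩ := (hW w hw).2
      refine LinearMap.congr_fun (b.ext (f₁ := b.coord j ∘ₗ act k V (D ^ (e * m))) (f₂ := 0)
        fun i => ?_) w
      rw [LinearMap.comp_apply, act_apply, hb, pw rfl]
      rcases lt_or_ge (e * m + i) d with h3 | h3
      · rw [← hb ⟨_, h3⟩]
        simp [Finsupp.single_eq_of_ne (show j ≠ ⟨_, h3⟩ from fun e => by
          have := congrArg Fin.val e
          simp at this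
          omega)]
      · simp [pw0 hV.zero h3]
    · have := LinearMap.congr_fun (b.ext (f₁ := b.coord j ∘ₗ act k V (of k G g))
        (f₂ := ((l₂ * α ^ j.1) g : k) • b.coord j) fun i => by
          rw [LinearMap.comp_apply, act_apply, hb, h.pow_mem_wt hv i g, ← hb]
          rcases eq_or_ne j i with rfl | e
          · simp
          · simp [Finsupp.single_eq_of_ne e]) w
      rw [LinearMap.comp_apply, act_apply, (hW w hw).1 g, map_smul] at this
      exact this.symm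
  have h2 := card_filter_le h.ord ht m s (fun j hj => (mem_filter.1 hj).2) he
  exact ⟨h1.trans h2.1, fun e => h1.trans (h2.2 fun e' => e (e' ▸ mul_one l₂))⟩

variable [Finite G]

theorem ev_smul {ψ : HM k G U V} (hψ : D • ψ = 0) (w : U) : ev ψ (D • w) = D • ev ψ w :=
  h.map_D (fun w => by
    rw [← h.of_smul_eq hψ (mem_zpowers x), ev_of, of_inv_smul, h.of_smul_eq hψ (mem_zpowers x)]) w

theorem hm_ext (hU : Blk k D p ⊤ d u) (hd : finrank k U = d) {ψ ψ' : HM k G U V} (hψ : D • ψ = 0)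
    (hψ' : D • ψ' = 0) (e : ev ψ u = ev ψ' u) : ψ = ψ' :=
  ev.injective (hU.ext hd (h.ev_smul hψ) (h.ev_smul hψ') e)

theorem smul_eq_zero_of_ev {ψ : HM k G U V} (hψ : ∀ w, ev ψ (D • w) = D • ev ψ w) : D • ψ = 0 :=
  h.smul_eq_zero (ev.injective (LinearMap.ext fun w => by
    rw [ev_of, h.map_of hψ (inv_mem (mem_zpowers x)), of_smul_inv]))

theorem exists_theta (hU : Blk k D p ⊤ d u) (hd : finrank k U = d) (hV : ∀ s : V, D ^ d • s = 0) :
    ∃ Θ : V →ₗ[k] HM k G U V, ∀ s, ev (Θ s) u = s ∧ D • Θ s = 0 := by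
  obtain ⟨b, hb⟩ := hU.exists_basis hd
  let Θ : V →ₗ[k] U →ₗ[k] V := (b.constr k).toLinearMap ∘ₗ LinearMap.pi fun j => act k V (D ^ j.1)
  have t1 : ∀ s (j : ℕ), Θ s (D ^ j • u) = D ^ j • s := fun s j => by
    rcases lt_or_ge j d with h1 | h1
    · rw [← hb ⟨j, h1⟩]
      simp [Θ]
    · rw [pw0 hU.zero h1, pw0 (hV s) h1, map_zero]
  refine ⟨ev.symm.toLinearMap ∘ₗ Θ, fun s => ⟨by simpa using t1 s 0, h.smul_eq_zero_of_ev ?_⟩⟩
  rw [LinearMap.comp_apply, LinearEquiv.coe_coe, LinearEquiv.apply_symm_apply]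
  exact LinearMap.congr_fun (b.ext (f₁ := Θ s ∘ₗ act k U D) (f₂ := act k V D ∘ₗ Θ s) fun j => by
    simp only [LinearMap.comp_apply, act_apply, hb, pw1 rfl, t1])

theorem wt_of_ev (hU : Blk k D p ⊤ d u) (hd : finrank k U = d) (hu : u ∈ wt U l₁) {ψ : HM k G U V}
    (hψ : D • ψ = 0) (h1 : ev ψ u ∈ wt V (l * l₁)) : ψ ∈ wt _ l := fun g => by
  refine h.hm_ext hU hd ((smul_eq_zero_iff_right (α g).ne_zero).1 ?_)
    (by rw [smul_comm, hψ, smul_zero]) ?_
  · rw [← mul_smul, ← smul_assoc, ← h.conj, mul_smul, hψ, smul_zero]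
  · rw [ev_of, ← Subgroup.coe_inv, hu g⁻¹, map_smul, map_smul, LinearMap.smul_apply, smul_comm, h1 g,
      smul_smul, MonoidHom.mul_apply, ← Units.val_mul, map_inv, mul_comm, mul_inv_cancel_right]

theorem mem_im_of_ad (hU : Blk k D p ⊤ d u) (hd : finrank k U = d) {i : ℕ} {a : End k U}
    (ha : (ad (rep k G U x - 1) ^ m) a = (rep k G U x - 1) ^ i) {ψ₀ ψ : HM k G U V}
    (h0 : D • ψ₀ = 0) (h1 : D • ψ = 0) (f : k[X]) (h2 : ev ψ u = D ^ i • aeval D f • ev ψ₀ u) :
    ψ ∈ im k D m (⊤ : Submodule k[G] (HM k G U V)) := by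
  obtain ⟨w, w1, w2⟩ := h.Dτ
  have hT : ∀ i : ℕ, (rep k G U x - 1) ^ i = act k U ((of k G x - 1) ^ i) := fun i => by
    simp [act, rep]
  have h3 : Commute (of k G x - 1) (w ^ i * aeval D f) := (w1.pow_right i).mul_right
    (commute_aeval' ((h.commute_of (mem_zpowers x)).symm.sub_left (Commute.one_left D)) f)
  have h4 := linHom_sub_one_pow_mul (x := x) (rep k G U) m (a * act k U (w ^ i * aeval D f))
  rw [ad_pow_mul_of_commute (by
    rw [← pow_one (_ - 1), hT, pow_one]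
    exact h3.map (Algebra.lsmul k k U)), ha, hT] at h4
  have t3 := h.ev_smul h0
  have h5 := h.τ_pow_mem (K := ⊤) m (v := (ev.symm (ev ψ₀ ∘ₗ
    (a * act k U (w ^ i * aeval D f) * rep k G U x ^ m)) : HM k G U V)) trivial
  rw [ev_pow ψ₀ (h.map_of t3 (mem_zpowers x)), h4] at h5
  have h6 : ∀ z : U, (act k U ((of k G x - 1) ^ i) * act k U (w ^ i * aeval D f)) z =
      D ^ i • aeval D f • z := fun z => by
    rw [End.mul_apply, act_apply, act_apply, smul_smul, ← mul_assoc, ← w1.mul_pow, ← w2, mul_smul]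
  refine h.hm_ext hU hd h1 (h.smul_eq_zero_of_ev fun z => ?_) ?_ ▸ h5
  · rw [LinearEquiv.apply_symm_apply, LinearMap.comp_apply, LinearMap.comp_apply, h6, h6, ← t3,
      smul_smul (aeval D f), ← (commute_aeval D f).eq, mul_smul, pw1' rfl, pw1 rfl]
  · rw [LinearEquiv.apply_symm_apply, LinearMap.comp_apply, h6, map_pow_smul t3, map_aeval_smul t3,
      h2]

theorem hom_scalar [IsSimpleModule k[G] U] (hU : Blk k D p ⊤ d u) (hd : finrank k U = d)
    (hu : u ∈ wt U l₁) {ψ : HM k G U U} (h0 : ψ ≠ 0) (h1 : D • ψ = 0)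
    (h2 : ∀ g, ∃ c : k, of k G g • ψ = c • ψ) (h3 : ψ ∈ wt _ l) : l = 1 := by
  have := Module.finite_of_finrank_pos (hd ▸ hU.pos)
  have h4 : Function.Injective (ev ψ) := by
    let W : Submodule k[G] U := ⟨(LinearMap.ker (ev ψ)).toAddSubmonoid, fun a w hw => by
      replace hw : ev ψ w = 0 := hw
      change ev ψ (a • w) = 0
      induction a using MonoidAlgebra.induction_on with
      | of g =>
        obtain ⟨c, hc⟩ := h2 g⁻¹
        have := ev_of g⁻¹ ψ w
        rw [hc, map_smul, LinearMap.smul_apply, hw, smul_zero, inv_inv] at this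
        rw [← of_smul_inv (k := k) g (ev ψ _), ← this, smul_zero]
      | add a b ha hb => rw [add_smul, map_add, ha, hb, add_zero]
      | smul r a ha => rw [smul_assoc, map_smul, ha, smul_zero]⟩
    refine (injective_iff_map_eq_zero _).2 fun w hw => (Submodule.mem_bot _).1
      (((eq_bot_or_eq_top W).resolve_right fun e => h0 (ev.injective (LinearMap.ext fun w => ?_))).le
        (show w ∈ W from hw))
    rw [map_zero]
    exact e.ge (Submodule.mem_top (x := w))
  obtain ⟨f, hf⟩ := hU.exists_aeval hd (ev ψ u)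
  have h5 := ev_mem_wt h3 hu
  have h6 : f.coeff 0 ≠ 0 := fun e => by
    obtain ⟨z, hz⟩ := LinearMap.injective_iff_surjective.1 h4 u
    obtain ⟨f', rfl⟩ := hU.exists_aeval hd z
    rw [map_aeval_smul (h.ev_smul h1), hf, aeval_smul D f, e, zero_smul, zero_add, smul_smul,
      ← (commute_aeval D f').eq, mul_smul] at hz
    exact hU.nmem' hU.pos ⟨_, trivial, by simpa using hz⟩
  refine mul_right_cancel (b := l₁) ((MonoidHom.ext fun g => Units.ext ?_).trans (one_mul l₁).symm)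
  have h7 : ev ψ u - f.coeff 0 • u ∈ im k D 1 (⊤ : Submodule k[G] U) :=
    ⟨_, trivial, by rw [hf, aeval_smul D f, add_sub_cancel_left, act_apply, pow_one]⟩
  have h8 := sub_mem (Submodule.smul_mem _ ((l * l₁) g : k) h7) (h.of_smul_mem_im g h7)
  rw [smul_sub, smul_sub, h5 g, sub_sub_sub_cancel_left, smul_comm (of k G _), hu g, smul_smul,
    smul_smul, ← sub_smul, mul_comm, ← sub_mul] at h8
  exact (sub_eq_zero.1 ((mul_eq_zero.1 (hU.eq_zero hU.pos (by simpa using h8))).resolve_right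
    h6)).symm

variable [hp : Fact p.Prime] [CharP k p]

theorem exists_ad (hU : Blk k D p ⊤ d u) (hd : finrank k U = d) (hp' : d + e = p) (h2 : 2 < p)
    {j : ℕ} (hj : j < p) : ∃ m ≥ j, ∃ a, (ad (rep k G U x - 1) ^ m) a =
      (rep k G U x - 1) ^ min ((j + 1) / 2) e := by
  obtain ⟨w, w1, w2⟩ := h.Dτ
  set T := rep k G U x - 1 with hT
  have hT' : ∀ i : ℕ, T ^ i = act k U ((of k G x - 1) ^ i) := fun i => by simp [T, act, rep]
  obtain ⟨d, rfl⟩ := Nat.exists_eq_succ_of_ne_zero hU.pos.ne'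
  have t8 : ∀ z : U, (of k G x - 1) ^ (d + 1) • z = 0 := fun z => by
    obtain ⟨z, -, hz⟩ := h.τ_pow_mem (K := ⊤) (d + 1) (v := z) trivial
    rw [← hz, act_apply, hU.pow_smul hd]
  have t9 : (of k G x - 1) ^ d • u ≠ 0 := fun e => hU.nmem (by
    rw [Nat.succ_sub_one, w2, w1.mul_pow, (w1.pow_pow d d).eq, mul_smul, e, smul_zero]
    exact zero_mem _)
  rcases lt_or_ge ((j + 1) / 2) e with h3 | h3
  · obtain ⟨-, f, hf, -⟩ := exists_sl_two (t := T) (by rw [hT']; exact LinearMap.ext t8)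
      (fun e => t9 (by rw [← act_apply (k := k), ← hT', e, LinearMap.zero_apply])) hd
    rcases lt_or_ge (2 * ((j + 1) / 2)) p with h4 | h4
    · exact ⟨_, by omega, min_eq_left h3.le ▸ exists_ad_pow (p := p) hf ((j + 1) / 2) h4⟩
    · exact absurd (show 2 ∣ p by omega) (by
        rw [Nat.prime_dvd_prime_iff_eq Nat.prime_two hp.out]; omega)
  obtain ⟨ℓ, l1, l2, l3⟩ := exists_dual (k := k) (t8 u) fun ⟨z, _, hz⟩ => t9 (hz ▸ t8 z)
  refine ⟨p - 1, by omega, ℓ.smulRight u, ?_⟩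
  have h3' : (ad T ^ (p - 1)) (ℓ.smulRight u) = nm (of k G x - 1) p (ℓ.smulRight u) := by
    rw [ad_pow_pred h2, nm]
    simp only [hT']
    rfl
  have h4 : ∀ {F : End k U}, (∀ z, F ((of k G x - 1) • z) = (of k G x - 1) • F z) →
      ∀ z, F (D • z) = D • F z := fun hF => h.map_D fun z => by
    simpa [sub_smul, -of_apply] using hF z
  have h5 : ∀ z : U, (of k G x - 1) ^ p • z = 0 := fun z => pw0 (t8 z) (by omega)
  rw [h3', hT', min_eq_right h3]
  refine hU.ext hd (h4 fun z => nm_smul _ (by rw [h5, map_zero]) (h5 _))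
    (h4 fun z => by rw [act_apply, act_apply, pw1 rfl, pw1' rfl]) ?_
  rw [nm_apply, sum_eq_single d (fun i _ hi => ?_) (by simp; omega)]
  · simp [l2, show p - 1 - d = e by omega, -of_apply]
  · rcases lt_or_gt_of_ne hi with hi | hi
    · simp [l3 i hi, -of_apply]
    · simp [← pw (Nat.add_sub_cancel' (Nat.succ_le_of_lt hi)), l1, -of_apply]

theorem finrank_fil (hU : Blk k D p ⊤ d u) (hd : finrank k U = d) (hV : Blk k D p ⊤ d v)
    (hd' : finrank k V = d) (hp' : d + e = p) (h2 : 2 < p) (he : e ≤ d) {Θ : V →ₗ[k] HM k G U V}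
    (hΘ : ∀ s, ev (Θ s) u = s ∧ D • Θ s = 0) {j : ℕ} (hj : j < p) :
    LinearMap.ker (act k _ D) ⊓ im k D j ⊤ = (im k D (min ((j + 1) / 2) e) ⊤).map Θ ∧
      finrank k (LinearMap.ker (act k (HM k G U V) D) ⊓ im k D j ⊤ : Submodule k _) =
        d - min ((j + 1) / 2) e := by
  have := Module.finite_of_finrank_pos (hd ▸ hU.pos)
  have := Module.finite_of_finrank_pos (hd' ▸ hV.pos)
  have t11 : ∀ j < p, (im k D (min ((j + 1) / 2) e) ⊤).map Θ ≤
      LinearMap.ker (act k _ D) ⊓ im k D j ⊤ := fun j hj _ ⟨s, ⟨s', _, hs⟩, e'⟩ => by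
    obtain ⟨m, hm, a, ha⟩ := h.exists_ad hU hd hp' h2 hj
    obtain ⟨f, rfl⟩ := hV.exists_aeval hd' s'
    exact e' ▸ ⟨(hΘ s).2, im_anti hm (h.mem_im_of_ad hU hd ha (hΘ v).2 (hΘ s).2 f
      (by rw [(hΘ s).1, (hΘ v).1]; exact hs.symm))⟩
  have t12 : ∀ j, d - min ((j + 1) / 2) e ≤ finrank k ((im k D (min ((j + 1) / 2) e) ⊤).map Θ) :=
    fun j => (hV.le_finrank_im _).trans (Submodule.equivMapOfInjective Θ
      (fun a b e => by rw [← (hΘ a).1, e, (hΘ b).1]) _).finrank_eq.le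
  have t13 := sum_finrank_fil (k := k) (U := HM k G U V) D p
  rw [ev.finrank_eq, finrank_linearMap, hd, hd'] at t13
  obtain ⟨c, rfl⟩ := Nat.exists_eq_add_of_le he
  have t14 := sum_min e (e + c) c he
  rw [show 2 * e + c = p by omega] at t14
  have t15 := (sum_eq_sum_iff_of_le fun j hj => (t12 j).trans
    (Submodule.finrank_mono (t11 j (mem_range.1 hj)))).1 (le_antisymm (sum_le_sum fun j hj =>
      (t12 j).trans (Submodule.finrank_mono (t11 j (mem_range.1 hj)))) (by
        rw [show p * (e + c) = (e + c) * (e + c) + e * e + c * e by rw [← hp']; ring] at t14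
        omega)) j (mem_range.2 hj)
  exact ⟨(Submodule.eq_of_le_of_finrank_le (t11 j hj) (t15.ge.trans (t12 _))).symm, t15.symm⟩

theorem exists_xs [NeZero e] (hU : Blk k D p ⊤ d u) (hd : finrank k U = d) (hu : u ∈ wt U l₁)
    (hV : Blk k D p ⊤ d v) (hd' : finrank k V = d) (hv : v ∈ wt V (κ * l₁)) (hp' : d + e = p)
    (ht : e * t + 1 = p) (h2 : 2 ≤ t) (he : 2 ≤ e) :
    ∃ g : ℕ → HM k G U V, XS k p e t α κ D g := by
  have := Module.finite_of_finrank_pos (hd' ▸ hV.pos)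
  obtain ⟨t, rfl⟩ := Nat.exists_eq_add_of_le' h2
  have hde : e * t + e + 1 = d := by rw [mul_add] at ht; omega
  obtain ⟨Θ, hΘ⟩ := h.exists_theta hU hd (hV.pow_smul hd')
  have t0 := fun j => h.finrank_fil hU hd hV hd' hp' (by omega) (by omega) hΘ (j := j)
  have t16 : ∀ i < e, ∀ ψ, D • ψ = 0 → ψ ∈ im k D (2 * i + 1) (⊤ : Submodule k[G] (HM k G U V)) →
      ev ψ u ∈ im k D (i + 1) (⊤ : Submodule k[G] V) := fun i hi ψ h3 h4 => by
    obtain ⟨s, hs, rfl⟩ := (t0 (2 * i + 1) (by omega)).1.le ⟨h3, h4⟩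
    rw [(hΘ s).1]
    exact im_anti (by omega) hs
  have t17 : ∀ ψ ∈ im k D (p - 1) (⊤ : Submodule k[G] (HM k G U V)), D • ψ = 0 :=
    fun ψ ⟨z, _, hz⟩ => by rw [← hz, act_apply, pw1 (c := p) (by omega), h.pow_p, zero_smul]
  have t18 : ∀ (l : E →* kˣ) (m : ℕ) (W : Submodule k (HM k G U V)), (∀ ψ ∈ W, ψ ∈ wt _ l ∧
      D • ψ = 0 ∧ ev ψ u ∈ im k D (e * m) (⊤ : Submodule k[G] V)) →
      finrank k W ≤ t + 1 + 1 - m ∧ (l ≠ κ → finrank k W ≤ t + 1 - m) := fun l m W hW => by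
    have h3 := h.finrank_wt_le (l := l * l₁) (t := t + 1) hV hd' hv (by rw [mul_add]; omega)
      (by omega) m (W.comap Θ) fun s hs => (hΘ s).1 ▸ ⟨ev_mem_wt (hW _ hs).1 hu, (hW _ hs).2.2⟩
    have h4 : finrank k W ≤ finrank k (W.comap Θ) :=
      (Submodule.finrank_mono fun ψ hψ => by
        have := h.hm_ext hU hd (hΘ (ev ψ u)).2 (hW ψ hψ).2.1 (hΘ _).1
        exact ⟨_, (congrArg (· ∈ W) this).mpr hψ, this⟩).trans (Submodule.finrank_map_le Θ _)
    exact ⟨h4.trans h3.1, fun e => h4.trans (h3.2 fun e' => e (mul_right_cancel e'))⟩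
  have t19 := fun l => t18 l 0 (wt _ l ⊓ LinearMap.ker (act k _ D)) fun ψ hψ =>
    ⟨hψ.1, hψ.2, ev ψ u, trivial, by simp⟩
  have t20 := fun l => t18 l 1 (wt _ l ⊓ im k D (p - 1) ⊤) fun ψ hψ => ⟨hψ.1, t17 ψ hψ.2,
    im_anti (by omega) (t16 (e - 1) (by omega) ψ (t17 ψ hψ.2) (im_anti (by omega) hψ.2))⟩
  choose! g _ g1 g2 using fun i (hi : i < e) => h.exists_wt_of_im (m := 2 * i)
    (l := om α κ (-(i : ZMod e))) (v := Θ (D ^ i • v))
    ((t0 (2 * i) (by omega)).1.ge ⟨_, mem_im_top (by omega) v, rfl⟩).2 (by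
      rw [h.om_add (z' := (0 : ZMod e) + (i : ZMod e)) (by push_cast; ring), ← h.om_add rfl, om_zero]
      exact h.wt_of_ev hU hd hu (hΘ _).2 ((hΘ _).1.symm ▸ h.pow_mem_wt' hv (mul_right_comm κ _ _)))
  refine ⟨g, g1, fun i hi => by rw [← pw1 rfl, g2 i hi, (hΘ _).2], fun i hi e => hV.nmem' (a := i)
    (by omega) ?_, fun l => (t19 l).1, fun l hl => Nat.lt_succ_of_le ((t19 l).2 hl),
    fun l => Nat.lt_succ_of_le (t20 l).1, fun l hl => by have := (t20 l).2 hl; omega, ?_⟩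
  · rw [g2 i hi] at e
    simpa only [(hΘ _).1] using t16 i hi _ (hΘ _).2 e
  · have h3 := (t0 (p - 1) (by omega)).2
    rw [inf_eq_right.2 fun ψ hψ => t17 ψ hψ] at h3
    omega

end Ctx

end Cfsg.Lib.Blau
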