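import Cfsg.Agent.Lib.Blau.Count
import Cfsg.Agent.Lib.Blau.Comb

/-!
# The principal block
-/

set_option autoImplicit false

namespace Cfsg.Lib.Blau

open Finset Module Cfsg.Lib.Cyc Subgroup MonoidAlgebra

universe u v

variable {k : Type u} {G : Type v} {X S S' : Type*} [Field k] [Group G]
  [AddCommGroup X] [Module k X] [Module k[G] X] [IsScalarTower k k[G] X]
  [AddCommGroup S] [Module k S] [Module k[G] S] [IsScalarTower k k[G] S]
  [AddCommGroup S'] [Module k[G] S']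
  {p e t m n B N : ℕ} {x : G} {E : Subgroup G} {α κ l : E →* kˣ} {D u π π' : k[G]}
  {K K' K₁ : Submodule k[G] k[G]} {u' : S} {g : ℕ → X} {b : ZMod e} {O : Set (ZMod e)}

/-- There is a simple module with a block of size `n` and weight `l`. -/
def Sp (D : k[G]) (p n : ℕ) (l : E →* kˣ) : Prop :=
  n < p ∧ ∃ (S : Type (max u v)) (_ : AddCommGroup S) (_ : Module k S) (_ : Module k[G] S)
    (_ : IsScalarTower k k[G] S) (_ : FiniteDimensional k S) (_ : IsSimpleModule k[G] S) (u : S),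
    Blk k D p ⊤ n u ∧ u ∈ wt S l

/-- The only maximal submodule containing `K` is `K₁`. -/
def Inv (K₁ K : Submodule k[G] k[G]) : Prop := ∀ R, R ⊔ K₁ = ⊤ → R ⊔ K = ⊤

variable (X) in
/-- A quotient of the regular module with simple top and many maps to `X`. -/
def StB (D : k[G]) (p : ℕ) (K₁ : Submodule k[G] k[G]) (l : E →* kˣ) (N B : ℕ) : Prop :=
  ∃ K u, Blk k D p K (p - N) u ∧ u ∈ wt k[G] l ∧ Inv K₁ K ∧ B ≤ finrank k (van X K)

/-- The lengths at which the maps appear. -/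
def rk (e c l : ℕ) : ℕ := if c ≤ l then l + 1 - c else 2 * (e - c) + l + 1

omit [Module k S] [IsScalarTower k k[G] S] in
theorem Inv.ker_le [IsSimpleModule k[G] S] {F : k[G] →ₗ[k[G]] S} (h : Inv (LinearMap.ker F) K)
    (hF : F π ≠ 0) {f : k[G] →ₗ[k[G]] S'} (hf : ∀ v ∈ K, f v = 0) (h0 : f ≠ 0) :
    LinearMap.ker f ≤ LinearMap.ker F := by_contra fun h1 => h0 (LinearMap.ker_eq_top.1
  ((sup_eq_left.2 hf).symm.trans (h _ ((LinearMap.isCoatom_ker_of_surjective
    (LinearMap.surjective_of_ne_zero fun e => hF (by simp [e]))).2 _ (right_lt_sup.2 h1)))))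

omit [Module k S] [IsScalarTower k k[G] S] in
theorem Inv.exists_smul [IsSimpleModule k[G] S] {F : k[G] →ₗ[k[G]] S}
    (h : Inv (LinearMap.ker F) K) (hF : F π ≠ 0) : ∃ a : k[G], 1 - a • π ∈ K := by
  obtain ⟨_, h1, c, hc, h2⟩ := Submodule.mem_sup.1 ((h (Submodule.span k[G] {π})
    ((LinearMap.isCoatom_ker_of_surjective (LinearMap.surjective_of_ne_zero fun e =>
      hF (by simp [e]))).2 _ (right_lt_sup.2 fun e =>
        hF (e (Submodule.mem_span_singleton_self π))))).ge (Submodule.mem_top (x := 1)))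
  obtain ⟨a, rfl⟩ := Submodule.mem_span_singleton.1 h1
  exact ⟨a, by rwa [← h2, add_sub_cancel_left]⟩

omit [Module k S] [IsScalarTower k k[G] S] [Module k X] [IsScalarTower k k[G] X] in
theorem Inv.eq_zero [IsSimpleModule k[G] S] {F : k[G] →ₗ[k[G]] S} (h : Inv (LinearMap.ker F) K)
    (hF : F π ≠ 0) {f : k[G] →ₗ[k[G]] X} (hf : ∀ v ∈ K, f v = 0) (h0 : f π = 0) : f = 0 := by
  obtain ⟨a, ha⟩ := h.exists_smul hF
  exact LinearMap.ext_ring (by simpa [h0, -smul_eq_mul] using hf _ ha)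

omit [Module k S] [IsScalarTower k k[G] S] [Module k X] [IsScalarTower k k[G] X] in
theorem Inv.exists_hom [IsSimpleModule k[G] S] [IsSimpleModule k[G] S'] {F : k[G] →ₗ[k[G]] S}
    {F' : k[G] →ₗ[k[G]] S'} (h : Inv (LinearMap.ker F) K) (h' : Inv (LinearMap.ker F') K')
    (hF : F π ≠ 0) (hF' : F' π' ≠ 0) {f f' : k[G] →ₗ[k[G]] X} (hf : ∀ v ∈ K, f v = 0)
    (hf' : ∀ v ∈ K', f' v = 0) (h0 : f' ≠ 0) (e : f π = f' π') : ∃ φ : S' →ₗ[k[G]] S, φ ≠ 0 := by
  obtain ⟨a, ha⟩ := h.exists_smul hF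
  have h1 : ∀ v, f v = f' (v • a • π') := fun v => by
    have := hf _ (K.smul_mem v ha)
    rw [smul_sub, smul_eq_mul, mul_one, map_sub, sub_eq_zero] at this
    rw [this, map_smul, map_smul, map_smul, map_smul, e]
  have h2 := h'.ker_le hF' hf' h0
  have h3 : LinearMap.toSpanSingleton k[G] S' (F' (a • π')) π = F' π' := by
    rw [LinearMap.toSpanSingleton_apply, ← map_smul, ← sub_eq_zero, ← map_sub]
    exact h2 (by rw [LinearMap.mem_ker, map_sub, ← h1, e, sub_self])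
  have h4 : LinearMap.toSpanSingleton k[G] S' (F' (a • π')) ≠ 0 := fun e =>
    hF' (by rw [← h3, e, LinearMap.zero_apply])
  refine ⟨(LinearMap.ker _).liftQ F (h.ker_le hF (fun v hv => ?_) h4) ∘ₗ
    (LinearMap.quotKerEquivOfSurjective _ (LinearMap.surjective_of_ne_zero h4)).symm.toLinearMap,
    fun e => hF ?_⟩
  · rw [LinearMap.toSpanSingleton_apply, ← map_smul]
    exact h2 (by rw [LinearMap.mem_ker, ← h1, hf v hv])
  · simpa only [LinearMap.comp_apply, LinearEquiv.coe_coe, LinearEquiv.symm_apply_apply,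
      Submodule.liftQ_apply, LinearMap.zero_apply] using
      LinearMap.congr_fun e (LinearMap.quotKerEquivOfSurjective _
        (LinearMap.surjective_of_ne_zero h4) (Submodule.Quotient.mk π))

variable [hp : Fact p.Prime] [CharP k p] [Finite G]

namespace Ctx

variable (h : Ctx p e x E α D)
include h

theorem free_pow (hn : n ≤ p) (hu : D ^ n • u = 0) :
    u ∈ im k D (p - n) (⊤ : Submodule k[G] k[G]) := by
  induction n generalizing u with
  | zero => simp [show u = 0 by simpa using hu]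
  | succ n ih =>
    obtain ⟨w, -, hw⟩ := h.free (a := D ^ n • u) (by rw [pw1 rfl, hu])
    simpa using add_mem (im_anti (show p - (n + 1) ≤ p - n by omega)
      (ih (u := u - D ^ (p - (n + 1)) • w) (by omega) (by
        rw [smul_sub, pw (show _ = p - 1 by omega), ← hw, act_apply, sub_self])))
      (mem_im_top le_rfl w)

theorem inv_step [IsSimpleModule k[G] S] (hK : Blk k D p K n u) {F : k[G] →ₗ[k] S} (hF : Eqv K F)
    (h1 : F u ∉ im k D (p - n) ⊤) (h2 : Inv K₁ K) : Inv K₁ hF.ker := fun R hR => by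
  have h3 := h2 R hR
  by_cases h4 : ∀ v ∈ (R ⊔ hF.ker) ⊓ K, F v = 0
  · obtain ⟨w, -, hw⟩ := h.free_pow hK.le hK.zero
    obtain ⟨r, hr, c, hc, rfl⟩ := Submodule.mem_sup.1 (h3.ge (Submodule.mem_top (x := w)))
    rw [act_apply, smul_add, ← eq_sub_iff_add_eq] at hw
    have := h4 _ ⟨Submodule.mem_sup_left (R.smul_mem (D ^ (p - n)) hr),
      hw ▸ sub_mem hK.mem (K.smul_mem _ hc)⟩
    rw [hw, map_sub, sub_eq_zero, hF _ _ hc] at this
    exact absurd (this ▸ mem_im_top le_rfl _) h1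
  push Not at h4
  obtain ⟨v, hv, h4⟩ := h4
  refine top_le_iff.1 (h3.ge.trans (sup_le le_sup_left fun c hc => ?_))
  obtain ⟨w, hw, h5⟩ := Eqv.surj (K := (R ⊔ hF.ker) ⊓ K) (fun a v hv => hF a v hv.2) hv h4 (F c)
  rw [← add_sub_cancel w c]
  exact add_mem hw.1 (Submodule.mem_sup_right ⟨sub_mem hc hw.2, by rw [map_sub, h5, sub_self]⟩)

variable [NeZero e]

theorem sp_ex (i : ZMod e) : ∃ n : ℕ, Sp D p n (om (e := e) α κ (i + 1 - n)) := by
  obtain ⟨S, _, _, _, _, _, _, n, u, h1, h2, h3⟩ := h.exists_simple (om α κ i)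
  refine ⟨n, h1, S, _, _, _, _, ‹_›, ‹_›, u, h2, (congrArg (u ∈ wt S ·) ?_).mp h3⟩
  rw [← h.om_add (z := i + 1 - (n : ZMod e)) (z' := i) (m := n - 1) (by rw [Nat.cast_sub h2.pos]; ring)]
  exact mul_inv_cancel_right (G := E →* kˣ) _ _

theorem sp_hom {z z' : ZMod e} (q : ℕ) (h1 : Sp D p n (om α κ z)) (h2 : Sp D p m (om α κ z'))
    (h3 : z' + q = z) (h4 : m ≤ q + n) (h5 : q < m) (h6 : q + n < p) : q = 0 ∧ n = m := by
  obtain ⟨-, S, _, _, _, _, _, _, u, h7, h8⟩ := h1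
  obtain ⟨h1, S', _, _, _, _, _, _, u', h9, h10⟩ := h2
  exact (h.hom_simple h7 h8 h9 h1 h10 (h.om_add h3) h4 h5 h6).imp_right And.left

variable [FiniteDimensional k X] (hX : XS k p e t α κ D g)
include hX

omit h hp [CharP k p] [Finite G] [FiniteDimensional k X] hX in
theorem exists_pair (z : ZMod e) {ε : ℕ} (h0 : 0 < ε) : ∃ i a : ℕ, i < e ∧ a ≤ 2 * i ∧ a < ε ∧
    -(i : ZMod e) + a = z ∧ (2 * i ≤ a ∨ 2 * i + ε ≤ 2 * e) := by
  have hc := z.val_lt
  rcases lt_or_ge (2 * z.val) ε with h1 | h1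
  · exact ⟨z.val, 2 * z.val, hc, le_rfl, h1, by simp [two_mul z], by omega⟩
  · exact ⟨e - z.val, 0, by omega, by omega, h0, by simp [Nat.cast_sub hc.le], by omega⟩

theorem long (ht : e * t + 1 = p) (h3 : 3 ≤ t) (he : 3 ≤ e) (h0 : O.Nonempty)
    (hO : ∀ a ∈ O, ∃ ε, 0 < ε ∧ ε ≤ e ∧ Sp D p (p - ε) (om (e := e) α κ (a + ε)) ∧ a + ε ∈ O) : False := by
  have h4 := Nat.mul_le_mul_left e h3
  replace hO : ∀ a ∈ O, ∃ ε, 0 < ε ∧ ε < e ∧ Sp D p (p - ε) (om (e := e) α κ (a + ε)) ∧ a + ε ∈ O :=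
    fun a ha => (hO a ha).imp fun ε h1 => ⟨h1.1, h1.2.1.lt_of_ne (by
      rintro rfl
      obtain ⟨-, S, _, _, _, _, _, _, u, h7, h8⟩ := h1.2.2.1
      exact h.single hX ht h3 he h7 h8), h1.2.2⟩
  obtain ⟨z, hz, hz'⟩ : ∃ z ∈ O, z ≠ 0 := by
    obtain ⟨a, ha⟩ := h0
    obtain ⟨ε, h1, h2, -, h5⟩ := hO a ha
    rcases eq_or_ne a 0 with rfl | h6
    · exact ⟨_, h5, by
        rw [zero_add, Ne, ZMod.natCast_eq_zero_iff]
        exact Nat.not_dvd_of_pos_of_lt h1 h2⟩
    · exact ⟨a, ha, h6⟩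
  obtain ⟨I, u₀, h0, h1, h2, h5, h6⟩ := h.exists_start (X := X) (om α κ z)
  have : FiniteDimensional k I := inferInstanceAs (FiniteDimensional k (I.restrictScalars k))
  have step : ∀ μ B ε : ℕ, StA X D p u₀ (om α κ z) (p - μ) B → Sp D p (p - ε) (om (e := e) α κ (z - μ + ε)) →
      0 < ε → ε < e → 2 * e ≤ μ → μ < p → StA X D p u₀ (om α κ z) (p - (μ - ε)) (B + 1) :=
    fun μ B ε h7 ⟨h8, S, _, _, _, _, _, _, u, h9, h10⟩ h11 h12 h13 h14 => by
      obtain ⟨i, a, h15⟩ := exists_pair (z - (μ : ZMod e) + (ε : ZMod e)) h11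
      exact h.stepA hX h0 h1 h2 h7 h9 h10 (by rw [Nat.cast_sub (by omega)]; ring) (by omega)
        (by omega) h8 (ι := Unit) (fun _ => i) (fun _ => a) (Function.injective_of_subsingleton _)
        (fun _ => ⟨h15.1, h15.2.1, by omega, by omega, h15.2.2.2.1⟩) fun _ => by omega
  have all : ∀ j j', j + j' + 2 = t → ∃ μ, e * (j' + 2) ≤ μ ∧ μ < p ∧ z - μ ∈ O ∧
      StA X D p u₀ (om α κ z) (p - μ) (2 * j) := fun j => by
    induction j with
    | zero => exact fun j' hj => ⟨e * t, by rw [← hj, zero_add], by omega, by simpa using hz,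
        by rwa [show p - e * t = 1 by omega]⟩
    | succ j ih =>
      intro j' hj
      obtain ⟨μ, h7, h8, h9, h10⟩ := ih (j' + 1) (by omega)
      obtain ⟨ε, h11, h12, h13, h14⟩ := hO _ h9
      obtain ⟨ε', h15, h16, h17, h18⟩ := hO _ h14
      have h19 : ε + ε' ≤ e := by
        by_contra! h19
        have := h.sp_hom (e - ε') h13 h17 (by rw [Nat.cast_sub h16.le]; simp) (by omega) (by omega)
          (by omega)
        omega
      rw [mul_add, mul_add] at h7
      have h20 : z - (μ - ε : ℕ) = z - μ + ε := by rw [Nat.cast_sub (by omega)]; ring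
      refine ⟨μ - ε - ε', by rw [mul_add]; omega, by omega, ?_, step _ _ _
        (step _ _ _ h10 h13 h11 h12 (by omega) h8) (h20 ▸ h17) h15 h16 (by omega) (by omega)⟩
      rwa [Nat.cast_sub (by omega), ← sub_add, h20]
  obtain ⟨μ, h7, h8, h9, h10⟩ := all (t - 2) 0 (by omega)
  obtain ⟨ε, h11, h12, h13, -⟩ := hO _ h9
  have := h6 _ _ (step _ _ _ h10 h13 h11 h12 (by omega) h8)
  have := hX.fix' _ fun e => hz' (h.om_inj (e.trans om_zero.symm))
  omega

theorem stepB (hK : Blk k D p K (p - N) u) (hS : Blk k D p ⊤ m u')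
    (hu' : u' ∈ wt S (om (e := e) α κ (b + N))) {F : k[G] →ₗ[k] S} (hF : Eqv K F) (hs : ∀ s, ∃ v ∈ K, F v = s)
    (hu : F u = u') (hm : m ≤ e) (hN : N + m < p) (he : 3 * e < p)
    (hB : #{l ∈ range e | rk e b.val l ≤ N} ≤ finrank k (van X K)) :
    #{l ∈ range e | rk e b.val l ≤ N + m} ≤ finrank k (van X hF.ker) := by
  have hc := b.val_lt
  let ι := {l // l ∈ (range e).filter fun l => N < rk e b.val l ∧ rk e b.val l ≤ N + m}
  have h1 : ∀ l : ι, l.1 < e ∧ N < rk e b.val l ∧ rk e b.val l ≤ N + m := fun l =>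
    (mem_filter.1 l.2).imp_left mem_range.1
  obtain ⟨f, f1, f2⟩ := h.exists_maps hX hS hu' (ι := ι)
    (fun l => if b.val ≤ l then l else e - b.val + l)
    (fun l => N + if b.val ≤ l then l + b.val else l) (fun l l' h2 => Subtype.ext (by
      have h3 := h1 l
      have h4 := h1 l'
      simp only [rk] at h2 h3 h4
      split_ifs at h2 h3 h4 <;> omega)) fun l => by
      have h3 := h1 l
      simp only [rk] at h3
      split_ifs at h3 ⊢
      · exact ⟨by omega, by omega, by omega, by omega, by simp; ring⟩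
      · exact ⟨by omega, by omega, by omega, by omega, by simp [Nat.cast_sub hc.le]; ring⟩
  refine le_trans ?_ ((Nat.add_le_add_right hB _).trans (finrank_van_add hF hs f1 fun j => ?_))
  · rw [Fintype.card_coe]
    refine le_trans (card_le_card fun l hl => ?_) (card_union_le _ _)
    simp only [mem_union, mem_filter, mem_range] at hl ⊢
    omega
  · refine h.extend hK (F := (f j).restrictScalars k ∘ₗ F) (fun b v hv => by
      simp [hF b v hv, -smul_eq_mul]) ?_
    simpa [hu] using add_mem (im_anti (show p - (p - N) ≤ p - m by omega) (f2 j))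
      (mem_im_top (n := N + if b.val ≤ j then j + b.val else j) (by omega)
        (g (if b.val ≤ j then j else e - b.val + j)))

theorem run [IsSimpleModule k[G] S] (hS : Blk k D p ⊤ n u') (hu' : u' ∈ wt S (om α κ b))
    (hn : n ≤ e) (he : 3 * e < p) (hb : b + n ∈ O)
    (hO : ∀ b ∈ O, ∃ n ≤ e, Sp D p n (om α κ b) ∧ b + n ∈ O) {F : k[G] →ₗ[k[G]] S} (hF : F ≠ 0) :
    ∃ N, 2 * e < N ∧ N < p ∧ StB X D p (LinearMap.ker F) (om (e := e) α κ (b + N)) N e := by
  have := Fintype.ofFinite E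
  suffices H : ∀ j, ∃ N, (j ≤ N ∨ 2 * e < N) ∧ N ≤ 3 * e ∧ 0 < N ∧ b + N ∈ O ∧
      StB X D p (LinearMap.ker F) (om (e := e) α κ (b + N)) N #{l ∈ range e | rk e b.val l ≤ N} by
    obtain ⟨N, h1, h2, -, -, h3⟩ := H (2 * e + 1)
    refine ⟨N, by omega, by omega, ?_⟩
    rwa [filter_true_of_mem fun l hl => by
      have := mem_range.1 hl
      simp only [rk]
      split_ifs <;> omega, card_range] at h3
  intro j
  induction j with
  | zero =>
    have h1 := LinearMap.surjective_of_ne_zero hF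
    obtain ⟨w, hw⟩ := h1 u'
    have h2 : F (pj (om α κ b) • w) = u' := by rw [map_smul, hw, h.pj_of_mem hu']
    have h3 : Blk k D p ⊤ (p - 0) (pj (om α κ b) • w) := ⟨trivial, by omega, by omega,
      pwp h.pow_p (by omega) _, fun e => hS.nmem' hS.pos (by
        simpa [h2, show p - (p - 1) = 1 by omega, -smul_eq_mul] using map_mem_im F
          (h.free_pow (Nat.sub_le p 1) (eq_zero_of_im h.pow_p le_rfl e))),
      fun v _ e => ⟨0, by simpa using h.free e⟩⟩
    have h4 : Eqv ⊤ (F.restrictScalars k) := fun a v _ => F.map_smul a v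
    refine ⟨n, .inl n.zero_le, by omega, hS.pos, hb, _, _, h3.ker_epi h.pow_p hS h4
      (fun s => (h1 s).imp fun _ e => ⟨trivial, e⟩) (by omega) h2,
      h.pow_mem_wt' (pj_mem w) (h.om_add rfl), fun R hR => hR.symm.trans_le
        (sup_le_sup_left (fun v hv => ⟨trivial, hv⟩) R) |>.antisymm' le_top, ?_⟩
    simpa using h.stepB hX h3 hS (b := b) (by simpa using hu') h4
      (fun s => (h1 s).imp fun _ e => ⟨trivial, e⟩) h2 hn (by omega) he (by
        rw [filter_false_of_mem fun l _ => by simp only [rk]; split_ifs <;> omega]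
        exact Nat.zero_le _)
  | succ j ih =>
    obtain ⟨N, h1, h2, h3, h4, h5⟩ := ih
    rcases lt_or_ge (2 * e) N with h6 | h6
    · exact ⟨N, .inr h6, h2, h3, h4, h5⟩
    obtain ⟨m, h7, ⟨-, T, _, _, _, _, _, _, s, h8, h9⟩, h10⟩ := hO _ h4
    obtain ⟨K, u, hK, hu, h11, h12⟩ := h5
    have h13 := h8.pos
    obtain ⟨φ, f1, f2, -⟩ := h.lift hK.mem hu hK.pos hK.zero hK.nmem h9 (pw0 h8.zero (by omega))
    rw [show p - (p - N) = N by omega] at f2
    have f3 : φ u ∉ im k D 1 ⊤ := fun e => h8.nmem' h13 (by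
      simpa using sub_mem e (im_anti h3 f2))
    have f4 := f1.surj hK.mem fun e => f3 (e ▸ zero_mem _)
    obtain ⟨z, -, hz⟩ := f2
    obtain ⟨w, hw, rfl⟩ := f4 z
    have f5 : φ (u - D ^ N • pj (om α κ b) • w) = s := by
      rw [map_sub, ← h.pj_pow, f1 _ _ (K.smul_mem _ hw), f1 _ _ hw,
        show D ^ N • φ w = _ from hz, h.om_add rfl,
        h.pj_of_mem (sub_mem (f1.map_mem_wt hK.mem hu) h9), sub_sub_cancel]
    have f6 := hK.shift h.pow_p (by omega) (u' := u - D ^ N • pj (om α κ b) • w) (by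
      rw [sub_sub_cancel_left]
      exact neg_mem (smul_mem_im' (by omega) (K.smul_mem _ hw)))
    refine ⟨N + m, by omega, by omega, by omega, by simpa [add_assoc] using h10, _, _,
      Nat.sub_sub p N m ▸ f6.ker_epi h.pow_p h8 f1 f4 (by omega) f5, h.pow_mem_wt' (sub_mem hu
        (h.pow_mem_wt' (pj_mem w) (h.om_add rfl))) (h.om_add (by push_cast; ring)),
      h.inv_step hK f1 (fun e => f3 (im_anti (by omega) e)) h11,
      h.stepB hX f6 h8 h9 f1 f4 f5 h7 (by omega) he h12⟩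

theorem stepC (h1 : StB X D p K₁ (om (e := e) α κ (b + N)) N B) (h2 : 2 * e < N) (h3 : N < p) {ε : ℕ}
    (h4 : 0 < ε) (h5 : ε ≤ e) (he : 3 * e < p) (h6 : Sp D p (p - ε) (om (e := e) α κ (b + ε))) :
    ∃ K, Inv K₁ K ∧ B + 1 ≤ finrank k (van X K) := by
  obtain ⟨K, u, hK, hu, h7, h8⟩ := h1
  obtain ⟨h9, T, _, _, _, _, _, _, s, h10, h11⟩ := h6
  obtain ⟨F, f1, f2, f3, w, hw, -, f4, f5⟩ := h.exists_mono (q := N - ε) hK hu h10 h11
    (h.om_add (by rw [Nat.cast_sub (by omega)]; ring)) (by omega) h9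
  obtain ⟨i, a, h12⟩ := exists_pair (b + (ε : ZMod e)) h4
  obtain ⟨f, f6, f7⟩ := h.exists_maps hX h10 h11 (ι := Unit) (fun _ => i) (fun _ => a)
    (Function.injective_of_subsingleton _) fun _ => ⟨h12.1, h12.2.1, by omega, by omega, h12.2.2.2.1⟩
  refine ⟨_, h.inv_step hK f1 f3 h7, (Nat.add_le_add_right h8 _).trans
    (finrank_van_add f1 f2 f6 fun j => h.extend hK (F := (f j).restrictScalars k ∘ₗ F)
      (fun b v hv => by simp [f1 b v hv, -smul_eq_mul]) ?_)⟩
  simpa [f5, smul_sub, pw rfl, pw0 (hX.zero i h12.1) (show 2 * i + 1 ≤ N - ε + a by omega)] using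
    pow_smul_mem_im (a := N - ε) (c := p - (p - N)) (by omega)
      (add_mem (map_mem_im (f j) f4) (f7 j))

omit hX [NeZero e] [FiniteDimensional k X] in
theorem exists_top [IsAlgClosed k] {s : S} (hs : D ^ (p - 1) • s ≠ 0) : ∃ (π : k[G]) (l : E →* kˣ),
    LinearMap.toSpanSingleton k[G] S s π ≠ 0 ∧
      ∀ f : k[G] →ₗ[k[G]] X, f π ∈ wt X l ⊓ im k D (p - 1) ⊤ := by
  have := Fintype.ofFinite E
  obtain ⟨l, hl⟩ := h.exists_pj (W := LinearMap.ker (act k S (D ^ (p - 1)))) hs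
  refine ⟨D ^ (p - 1) • pj l • 1, l * α ^ (p - 1), by simpa [mul_smul] using hl, fun f => ?_⟩
  rw [map_smul, map_smul]
  exact ⟨h.pow_mem_wt (pj_mem _) _, mem_im_top le_rfl _⟩

theorem short [IsAlgClosed k] (hN : NS p x) (ht : e * t + 1 = p) (h3 : 3 ≤ t) (he : 3 ≤ e)
    (hX' : ∀ (ψ : X) l, ψ ≠ 0 → D • ψ = 0 → (∀ g, ∃ c : k, of k G g • ψ = c • ψ) → ψ ∈ wt X l →
      l = κ) : e + 2 ≤ t := by
  have h4 := Nat.mul_le_mul_left e h3
  obtain ⟨O, h5, h6⟩ | ⟨O, h5, b, n, h6, h7, h8, h9⟩ | h5 := trichotomy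
    (Q := fun n z => Sp D p n (om α κ z)) ht (by omega)
    (fun n z ⟨h5, _, _, _, _, _, _, _, _, h6, _⟩ => ⟨h6.pos, h5⟩) h.sp_ex
    fun n z m z' q => h.sp_hom q
  · exact (h.long hX ht h3 he h5 h6).elim
  · obtain ⟨m, h10⟩ := h.sp_ex (κ := κ) b
    have ⟨h11, _, _, _, _, _, _, _, _, h12, _⟩ := h10
    have h13 := h12.pos
    have h14 : p < m + n := by
      by_contra! h14
      have := h.sp_hom (m - 1) h8 h10 (by rw [Nat.cast_sub h13]; ring) (by omega) (by omega)
        (by omega)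
      omega
    obtain ⟨-, S, _, _, _, _, _, _, u, h15, h16⟩ := h8
    obtain ⟨s, -, hs⟩ := hN.exists_ne h h15 h6 (by omega)
    obtain ⟨π, l, h17, h18⟩ := h.exists_top (X := X) hs
    obtain ⟨N, h19, h20, h21⟩ := h.run hX h15 h16 h7 (by omega) h9 h5
      (F := LinearMap.toSpanSingleton k[G] S s) fun e => h17 (by simp [e])
    obtain ⟨K, h22, h23⟩ := h.stepC hX h21 h19 h20 (ε := p - m) (by omega) (by omega) (by omega) (by
      rwa [Nat.sub_sub_self h11.le, Nat.cast_sub h11.le, show (p : ZMod e) = 1 by simp [← ht],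
        ← add_sub_assoc])
    have := finrank_van_le (K := K) (fun f _ => h18 f) fun f hf => h22.eq_zero h17 hf
    have := hX.nrm l
    omega
  have key : ∀ j : ℕ, 0 < j → j < e → ∀ (S : Type (max u v)) [AddCommGroup S] [Module k S]
      [Module k[G] S] [IsScalarTower k k[G] S] [FiniteDimensional k S] [IsSimpleModule k[G] S]
      (u : S), Blk k D p ⊤ 1 u →
      u ∈ wt S (om (e := e) α κ (j : ZMod e)) → e + 2 ≤ t ∨ ∃ (F : k[G] →ₗ[k[G]] S) (π : k[G]) (K : _),
        F π ≠ 0 ∧ (∀ f : k[G] →ₗ[k[G]] X, f π ∈ wt X κ ⊓ im k D (p - 1) ⊤) ∧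
        Inv (LinearMap.ker F) K ∧ e ≤ finrank k (van X K) := fun j h6 h7 S _ _ _ _ _ _ u h8 h9 => by
    obtain ⟨s, hs⟩ : ∃ s : S, D ^ (p - 1) • s ≠ 0 := by
      by_contra! h10
      have h11 := h8.finrank_le h.pow_p fun v _ => h10 v
      have h12 : u ≠ 0 := fun e => h8.nmem (by simp [e])
      obtain ⟨f, f1, -⟩ := h.exists_maps hX h8 h9 (ι := Unit) (fun _ => j) (fun _ => 2 * j)
        (Function.injective_of_subsingleton _)
        fun _ => ⟨h7, le_rfl, by omega, by omega, by push_cast; ring⟩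
      have h13 := hX' (f () u) _ ((map_ne_zero_iff _ (LinearMap.injective_of_ne_zero
        (f1.ne_zero ()))).2 h12) (by rw [← map_smul, ← pow_one D, h8.zero, map_zero]) (fun g => by
          obtain ⟨c, hc⟩ := (finrank_eq_one_iff_of_nonzero' (⟨u, trivial⟩ : (⊤ : Submodule k[G] S))
            (mt Subtype.ext_iff.1 h12)).1 (h11.antisymm ((finrank_pos_iff_exists_ne_zero.2
              ⟨u, h12⟩).trans_eq (finrank_top k S).symm)) ⟨of k G g • u, trivial⟩
          exact ⟨c, by rw [← map_smul, ← show c • u = of k G g • u from congrArg Subtype.val hc,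
            LinearMap.map_smul_of_tower]⟩) (map_mem_wt _ h9)
      exact Nat.not_dvd_of_pos_of_lt h6 h7 ((ZMod.natCast_eq_zero_iff j e).1
        (h.om_inj (h13.trans om_zero.symm)))
    obtain ⟨π, l, h10, h11⟩ := h.exists_top (X := X) hs
    obtain ⟨N, -, -, K, -, -, -, h12, h13⟩ := h.run hX h8 h9 (O := Set.univ) (by omega) (by omega)
      trivial (fun b _ => ⟨1, by omega, h5 b, trivial⟩) (F := LinearMap.toSpanSingleton k[G] S s)
      fun e => h10 (by simp [e])
    rcases eq_or_ne l κ with rfl | h14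
    · exact .inr ⟨_, π, K, h10, h11, h12, h13⟩
    have := finrank_van_le (K := K) (fun f _ => h11 f) fun f hf => h12.eq_zero h10 hf
    have := hX.nrm' l h14
    exact .inl (by omega)
  obtain ⟨-, S, _, _, _, _, _, _, u, h6, h7⟩ := h5 (1 : ℕ)
  obtain ⟨-, S', _, _, _, _, _, _, u', h8, h9⟩ := h5 (2 : ℕ)
  refine (key 1 one_pos (by omega) S u h6 h7).elim id fun ⟨F, π, K, f1, f2, f3, f4⟩ =>
    (key 2 two_pos (by omega) S' u' h8 h9).elim id fun ⟨F', π', K', g1, g2, g3, g4⟩ => ?_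
  have : Nontrivial (van X K') := nontrivial_of_finrank_pos (R := k) (by omega)
  obtain ⟨f', hf'⟩ := exists_ne (0 : van X K')
  have h10 := finrank_van_le (K := K) (W := (van X K).map (LinearMap.applyₗ' k π))
    (fun f hf => ⟨f, hf, rfl⟩) fun f hf => f3.eq_zero f1 hf
  have h11 := Submodule.finrank_lt_finrank_of_lt (s := (van X K).map (LinearMap.applyₗ' k π))
    (SetLike.lt_iff_le_and_exists.2 ⟨fun _ ⟨f, _, e⟩ => e ▸ f2 f, _, g2 f', fun ⟨f, hf, e⟩ => by
      obtain ⟨φ, hφ⟩ := f3.exists_hom g3 f1 g1 hf f'.2 (fun e => hf' (Subtype.ext e)) e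
      have := h.om_inj (h.iso h8 hp.out.one_lt h9 h6 hp.out.one_lt h7 hφ).2
      rw [ZMod.natCast_eq_natCast_iff'] at this
      rw [Nat.mod_eq_of_lt (by omega), Nat.mod_eq_of_lt (by omega)] at this
      omega⟩)
  have := hX.nrm κ
  omega

end Ctx

end Cfsg.Lib.Blau
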