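import Cfsg.Agent.Lib.Blau.Red
import Cfsg.Agent.Lib.Blau.Short
import Cfsg.Agent.Lib.Cyc.PTwoZ

/-!
# Faithful irreducible characters of degree less than `p - 1`
-/

set_option autoImplicit false

namespace Cfsg.Lib.Blau

open Finset Module Cfsg.Lib.Cyc Subgroup Cfsg.Lib.Char Cfsg.Lib.Modular
open scoped MatrixGroups

variable {G : Type*} [Group G] [Finite G] {p t : ℕ} [hp : Fact p.Prime]

omit hp in
theorem exists_scalar {n : ℕ} {ρ : Representation ℂ G (Fin n → ℂ)} (h : IsIrrCharacter G ρ.character)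
    {z : G} (hz : z ∈ center G) : ∃ ω : ℂ, ω ^ orderOf z = 1 ∧ ρ z = ω • 1 ∧
      ∀ g, ρ.character (z * g) = ω * ρ.character g := by
  obtain ⟨ω, h1, h2⟩ := exists_scalar_of_mem_center h hz
  obtain ⟨η, h4⟩ := (norm_character_eq_iff ρ z).1 (by
    rw [← mul_one z, h2, norm_mul, Complex.norm_eq_one_of_pow_eq_one h1 (orderOf_pos _).ne']
    simp)
  refine ⟨ω, h1, h4.trans (congrArg (· • _) (mul_right_cancel₀ h.apply_one_ne_zero ?_)), h2⟩
  rw [← h2, mul_one, Representation.character, Representation.character, h4, map_smul, map_one]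
  rfl

/-- **Blau**: faithful irreducible characters of degree at most `p - 2`. -/
theorem main (h7 : 7 < p) (P : Sylow p G) (hP : Nat.card P = p) (hn : ¬ (P : Subgroup G).Normal)
    {ζ : G → ℂ} (hζ : IsIrrCharacter G ζ) (hf : ∀ g : G, ζ g = ζ 1 → g = 1)
    (hd : charDegree ζ + 2 ≤ p)
    (ht : Nat.card {c : ConjClasses G // ∃ g : G, ConjClasses.mk g = c ∧ orderOf g = p} = t) :
    (Nonempty (G ⧸ center G ≃* PSL(2, ZMod p)) ∧
      (2 * charDegree ζ = p + 1 ∨ 2 * charDegree ζ = p - 1) ∧ t = 2) ∨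
    ∃ e, charDegree ζ + e = p ∧ e * t + 1 = p ∧ (3 ≤ e → e + 2 ≤ t) ∧
      (Odd (Nat.card (center G)) → e ≤ 2) := by
  obtain ⟨x, h0, hx⟩ := Small.exists_mem_orderOf_eq_prime hp.out hP.symm.dvd
  have h1 : x ≠ 1 := fun e => hp.out.ne_one (by rw [← hx, e, orderOf_one])
  have hR := eq_zpowers_of_card hP h0 h1
  have hsq : ¬ p ^ 2 ∣ Nat.card G := fun h => P.not_dvd_index (by
    rwa [← (P : Subgroup G).card_mul_index, hP, sq, Nat.mul_dvd_mul_iff_left hp.out.pos] at h)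
  have h2 := card_classes hx hsq
  obtain ⟨e, he⟩ : ∃ e, (centralizer (zpowers x : Set G)).relIndex
    (normalizer (zpowers x : Set G)) = e := ⟨_, rfl⟩
  rw [ht, he] at h2
  obtain ⟨h3, h4⟩ := small_dichotomy P hP ⟨ζ, hζ⟩ h0 (mt (hf x) h1) hd (hR ▸ he)
  have hinj : ∀ {n : ℕ} (ρ : Representation ℂ G (Fin n → ℂ)), (∀ g, ρ.character g = ρ.character 1 →
      g = 1) → Function.Injective ρ := fun ρ h => (injective_iff_map_eq_one ρ).2 fun g hg =>
    h g ((character_eq_character_one_iff ρ g).2 hg)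
  obtain ⟨n, ρ, -, rfl⟩ := id hζ
  have hρ := hinj ρ hf
  have h5 := charDegree_character ρ
  rw [hR] at hn
  have h6 : p ≤ 2 * e + 1 → t = 2 := fun h => by
    clear h4
    exact Nat.eq_of_mul_eq_mul_right (m := e) (by omega) (by omega)
  obtain ⟨m, J, h8, h9, h10, h11⟩ | ⟨t', Y, hF, hθ⟩ := h4
  · obtain ⟨ψ, hψ⟩ := psl_of_eig ρ hρ hx hsq hn (h5 ▸ hd) (fun ω hω => (h10 ω hω).1) h11 (by omega)
      (by omega)
    have h12 := he ▸ le_of_psl hx hsq ρ hρ (h5 ▸ hd) (by omega) hψ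
    have h13 := hζ.charDegree_pos
    simp only at h8
    obtain rfl : m = 1 := by
      rcases m with _ | _ | m
      · omega
      · rfl
      · rw [add_mul, add_mul] at h8
        omega
    exact .inl ⟨quotient_equiv_psl ρ hρ hx hsq hn (by omega), .inr (by omega), h6 h12⟩
  have h8 : charDegree ρ.character + e = p := hF.deg _ hθ
  have hC : ∀ y ∈ centralizer (zpowers x : Set G), ∃ z ∈ center G, ∃ w ∈ zpowers x, z * w = y :=
    fun y hy => by
      obtain ⟨z, h9, w, h10, -, h11⟩ := hF.exists_mul hθ hf (hR ▸ hy)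
      exact ⟨z, h9, w, hR ▸ h10, h11⟩
  by_cases h9 : ∃ ψ : normalClosure ({x} : Set G) →* PSL(2, ZMod p), Function.Surjective ψ
  · obtain ⟨ψ, hψ⟩ := h9
    have h12 := he ▸ le_of_psl hx hsq ρ hρ (h5 ▸ hd) (by omega) hψ
    exact .inl ⟨equiv_of_psl hx hsq ρ hρ (h5 ▸ hd) (by omega) hψ hC (he ▸ h3), .inl (by omega),
      h6 h12⟩
  have hN : NS p x := ⟨h9, perf hx hsq hn ρ hρ (h5 ▸ hd)⟩
  obtain ⟨O, k, _, _, _, ⟨r⟩⟩ := exists_field p
  obtain ⟨E, α, D, h, hα⟩ := exists_ctx (k := k) hx hsq hn hC he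
  obtain ⟨S, _, _, _, _, _, u, l, s1, s2, s3, s4⟩ := h.exists_blk ρ hρ hx hsq hn (h5 ▸ hd) hN
    (h5 ▸ h8) h3 r
  have : NeZero e := ⟨by omega⟩
  have := Module.finite_of_finrank_pos (s2 ▸ s1.pos)
  have h10 : e * t + 1 = p := by rw [mul_comm]; omega
  have h11 : 2 ≤ t := by
    rcases t with _ | _ | t <;> omega
  obtain ⟨g, hX⟩ := h.exists_xs (κ := 1) s1 s2 s3 s1 s2 ((one_mul l).symm ▸ s3) (by omega) h10 h11
    (by omega)
  have h12 : 3 ≤ t := h11.lt_of_ne (by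
    rintro rfl
    refine h.two hX hN h10 (not_lt.1 fun h12 => ?_)
    obtain rfl : p = 9 := by omega
    exact absurd hp.out (by decide))
  refine .inr ⟨e, h8, h10, fun h13 => h.short hX hN h10 h12 h13 fun ψ l' h14 h15 h16 h17 =>
    h.hom_scalar s1 s2 s3 h14 h15 h16 h17, fun hZ => not_lt.1 fun h13 => ?_⟩
  obtain ⟨j, j1, -, j2⟩ := exists_pow_two (G := G) hp.out
  have hζ' := hζ.comp_pow j1
  obtain ⟨n', ρ', -, h14⟩ := id hζ'
  have h15 : finrank ℂ (Fin n' → ℂ) = finrank ℂ (Fin n → ℂ) := by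
    rw [← h5, ← charDegree_character ρ', h14]
    exact charDegree_congr (congrArg ρ.character (one_pow j))
  obtain ⟨S', _, _, _, _, _, u', l', t1, t2, t3, t4⟩ := h.exists_blk ρ' (hinj ρ' fun g hg =>
    (powCoprime j1.symm).injective ((hf (g ^ j) (by simpa only [h14, one_pow] using hg)).trans
      (one_pow j).symm)) hx hsq hn (by omega) hN (by omega) h3 r
  have := Module.finite_of_finrank_pos (t2 ▸ t1.pos)
  obtain ⟨κ, rfl⟩ : ∃ κ, l' = κ * l := ⟨_, (inv_mul_cancel_right (G := E →* kˣ) l' l).symm⟩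
  obtain ⟨μ, hμ⟩ : ∃ μ, l = κ * μ := ⟨_, (mul_inv_cancel_left (G := E →* kˣ) κ l).symm⟩
  obtain ⟨g', hX'⟩ := h.exists_xs s1 s2 s3 t1 t2 t3 (by omega) h10 h11 (by omega)
  obtain ⟨i, rfl⟩ := hα μ fun z hz => by
    obtain ⟨ω, h16, h17, h18⟩ := exists_scalar hζ hz
    obtain ⟨ω', -, h19, h20⟩ := exists_scalar (h14 ▸ hζ') hz
    have h21 := h20 1
    rw [h14] at h21
    simp only [mul_one, one_pow] at h21
    rw [j2 z (hZ.of_dvd_nat ((center G).orderOf_dvd_natCard hz)) (not_dvd_of_center hx hsq hn hz),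
      sq, h18, ← mul_one (z : G), h18, ← mul_assoc, mul_left_inj' hζ.apply_one_ne_zero] at h21
    have h22 := mem_of_pow_eq_one O (orderOf_pos _).ne' h16
    have h23 := t4 z (⟨ω, h22⟩ * ⟨ω, h22⟩) (h19.trans (congrArg (· • _) h21.symm))
    rw [map_mul, ← s4 z ⟨ω, h22⟩ h17, MonoidHom.mul_apply, ← Units.val_mul, Units.val_inj,
      mul_left_inj] at h23
    have h24 := DFunLike.congr_fun hμ z
    rwa [MonoidHom.mul_apply, h23, left_eq_mul] at h24
  exact h.single hX' h10 h12 h13 s1 (z := (i : ZMod e)) (by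
    rwa [← h.om_add (zero_add _), om_zero, ← hμ])

end Cfsg.Lib.Blau
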