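import Cfsg.Agent.Lib.Cyc.Jordan

/-!
# Modules with a single non-free Jordan block for a nilpotent element of an algebra
-/

set_option autoImplicit false

namespace Cfsg.Lib.Blau

open Finset Module Polynomial Cfsg.Lib.Cyc

variable {k A U X : Type*} [Field k] [Ring A] [Algebra k A]
  [AddCommGroup U] [Module k U] [Module A U] [IsScalarTower k A U]
  [AddCommGroup X] [Module k X] [Module A X] [IsScalarTower k A X]
  {D : A} {K : Submodule A U} {a b c m n p q : ℕ} {u v w : U}

variable (k U) in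
/-- The action of an element as a linear map. -/
def act (a : A) : End k U := Algebra.lsmul k k U a

@[simp] theorem act_apply (a : A) (v : U) : act k U a v = a • v := rfl

omit [Module k U] [IsScalarTower k A U] in
theorem pw (h : a + b = c) (v : U) : D ^ a • D ^ b • v = D ^ c • v := by
  rw [smul_smul, ← pow_add, h]

omit [Module k U] [IsScalarTower k A U] in
theorem pw1 (h : a + 1 = c) (v : U) : D • D ^ a • v = D ^ c • v := by
  rw [smul_smul, ← pow_succ', h]

omit [Module k U] [IsScalarTower k A U] in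
theorem pw1' (h : a + 1 = c) (v : U) : D ^ a • D • v = D ^ c • v := by
  rw [smul_smul, ← pow_succ, h]

omit [Module k U] [IsScalarTower k A U] in
theorem pw0 (hv : D ^ a • v = 0) (h : a ≤ b) : D ^ b • v = 0 := by
  rw [← pw (Nat.sub_add_cancel h), hv, smul_zero]

omit [Module k U] [IsScalarTower k A U] in
theorem pwp (hD : D ^ p = 0) (h : p ≤ b) (v : U) : D ^ b • v = 0 :=
  pw0 (by rw [hD, zero_smul]) h

variable (k) in
/-- The image of `K` under `D ^ m`. -/
def im (D : A) (m : ℕ) (K : Submodule A U) : Submodule k U :=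
  (K.restrictScalars k).map (act k U (D ^ m))

theorem mem_im : v ∈ im k D m K ↔ ∃ w ∈ K, D ^ m • w = v := Iff.rfl

theorem smul_mem_im (hw : w ∈ K) : D ^ m • w ∈ im k D m K := ⟨w, hw, rfl⟩

theorem smul_mem_im' (h : m ≤ n) (hw : w ∈ K) : D ^ n • w ∈ im k D m K :=
  ⟨D ^ (n - m) • w, K.smul_mem _ hw, pw (by omega) w⟩

theorem mem_im_top (h : m ≤ n) (w : U) : D ^ n • w ∈ im k D m (⊤ : Submodule A U) :=
  smul_mem_im' h trivial

theorem im_anti (h : m ≤ n) (hv : v ∈ im k D n K) : v ∈ im k D m K := by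
  obtain ⟨w, hw, rfl⟩ := hv
  exact smul_mem_im' h hw

theorem im_mono {K' : Submodule A U} (h : K ≤ K') (hv : v ∈ im k D n K) : v ∈ im k D n K' := by
  obtain ⟨w, hw, rfl⟩ := hv
  exact smul_mem_im (h hw)

theorem mem_of_im (hv : v ∈ im k D n K) : v ∈ K := by
  obtain ⟨w, hw, rfl⟩ := hv
  exact K.smul_mem _ hw

theorem pow_smul_mem_im (h : c ≤ a + b) (hv : v ∈ im k D b K) : D ^ a • v ∈ im k D c K := by
  obtain ⟨w, hw, rfl⟩ := hv
  rw [act_apply, pw rfl]
  exact smul_mem_im' h hw

theorem comm_smul_mem_im {r : A} (hr : Commute D r) (hv : v ∈ im k D b K) :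
    r • v ∈ im k D b K := by
  obtain ⟨w, hw, rfl⟩ := hv
  refine ⟨r • w, K.smul_mem _ hw, ?_⟩
  simp only [act_apply, smul_smul, (hr.pow_left b).eq]

theorem eq_zero_of_im (hD : D ^ p = 0) (h : p ≤ n) (hv : v ∈ im k D n K) : v = 0 := by
  obtain ⟨w, -, rfl⟩ := hv
  exact pwp hD h w

theorem map_mem_im (F : U →ₗ[A] X) (hv : v ∈ im k D n K) : F v ∈ im k D n (⊤ : Submodule A X) := by
  obtain ⟨w, -, rfl⟩ := hv
  exact ⟨F w, trivial, (F.map_smul _ _).symm⟩

theorem commute_aeval (D : A) (f : k[X]) : Commute D (aeval D f) := by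
  simpa using (Commute.all Polynomial.X f).map (aeval D)

theorem aeval_smul (D : A) (f : k[X]) (v : U) :
    aeval D f • v = f.coeff 0 • v + D • aeval D f.divX • v := by
  conv_lhs => rw [← X_mul_divX_add f, map_add, map_mul, aeval_X, aeval_C, add_smul, mul_smul,
    algebraMap_smul, add_comm]

theorem map_aeval_smul {F : U →ₗ[k] X} (hF : ∀ v, F (D • v) = D • F v) (q : k[X]) (v : U) :
    F (aeval D q • v) = aeval D q • F v := by
  induction q using Polynomial.induction_on generalizing v with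
  | C c => rw [aeval_C, algebraMap_smul, algebraMap_smul, map_smul]
  | add a b ha hb => simp [add_smul, ha, hb]
  | monomial n c ih => rw [pow_succ, ← mul_assoc, map_mul, aeval_X, mul_smul, mul_smul, ih, hF]

theorem map_pow_smul {F : U →ₗ[k] X} (hF : ∀ v, F (D • v) = D • F v) (i : ℕ) (v : U) :
    F (D ^ i • v) = D ^ i • F v := by
  simpa using map_aeval_smul hF (Polynomial.X ^ i) v

theorem sum_finrank_fil [FiniteDimensional k U] (D : A) (m : ℕ) :
    ∑ j ∈ range m, finrank k (LinearMap.ker (act k U D) ⊓ im k D j ⊤ : Submodule k U) +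
      finrank k (im k D m (⊤ : Submodule A U)) = finrank k U := by
  induction m with
  | zero =>
    rw [sum_range_zero, zero_add, ← finrank_top k U]
    exact congrArg (fun W : Submodule k U => finrank k W)
      (eq_top_iff.2 fun v _ => ⟨v, trivial, by simp⟩)
  | succ m ih =>
    have h1 := LinearMap.finrank_range_add_finrank_ker ((act k U D).domRestrict (im k D m ⊤))
    rw [LinearMap.range_domRestrict, LinearMap.ker_domRestrict, ← Submodule.finrank_map_subtype_eq,
      Submodule.map_comap_subtype, inf_comm, show (im k D m ⊤).map (act k U D) = im k D (m + 1) ⊤ from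
        le_antisymm (fun _ ⟨_, ⟨w, _, e⟩, e'⟩ => ⟨w, trivial, by simp [← e', ← e, pw1 rfl]⟩)
          fun _ ⟨w, _, e⟩ => ⟨_, mem_im_top le_rfl w, by simp [← e, pw1 rfl]⟩] at h1
    rw [sum_range_succ, ← ih, ← h1]
    ring

/-- A linear map which is `A`-linear on `K`. -/
def Eqv (K : Submodule A U) (h : U →ₗ[k] X) : Prop := ∀ (a : A), ∀ v ∈ K, h (a • v) = a • h v

theorem Eqv.map_mem_im {h : U →ₗ[k] X} (hh : Eqv K h) (hv : v ∈ im k D n K) :
    h v ∈ im k D n (⊤ : Submodule A X) := by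
  obtain ⟨w, hw, rfl⟩ := hv
  exact ⟨h w, trivial, (hh _ _ hw).symm⟩

/-- The kernel inside `K`. -/
def Eqv.ker {h : U →ₗ[k] X} (hh : Eqv K h) : Submodule A U where
  carrier := {v | v ∈ K ∧ h v = 0}
  add_mem' ha hb := ⟨K.add_mem ha.1 hb.1, by rw [map_add, ha.2, hb.2, add_zero]⟩
  zero_mem' := ⟨K.zero_mem, h.map_zero⟩
  smul_mem' a v hv := ⟨K.smul_mem a hv.1, by rw [hh a v hv.1, hv.2, smul_zero]⟩

theorem Eqv.mem_ker {h : U →ₗ[k] X} (hh : Eqv K h) : v ∈ hh.ker ↔ v ∈ K ∧ h v = 0 := Iff.rfl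

/-- The `A`-linear map on `K`. -/
def Eqv.lin {h : U →ₗ[k] X} (hh : Eqv K h) : K →ₗ[A] X where
  toFun v := h v
  map_add' v w := h.map_add v w
  map_smul' a v := hh a v v.2

/-- The `A`-linear map on the whole module. -/
def Eqv.top {h : U →ₗ[k] X} (hh : Eqv (⊤ : Submodule A U) h) : U →ₗ[A] X where
  toFun v := h v
  map_add' v w := h.map_add v w
  map_smul' a v := hh a v trivial

theorem exists_eqv (F : K →ₗ[A] X) :
    ∃ h : U →ₗ[k] X, Eqv K h ∧ ∀ v (hv : v ∈ K), h v = F ⟨v, hv⟩ := by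
  obtain ⟨h, hh⟩ := LinearMap.exists_extend (p := K.restrictScalars k) (F.restrictScalars k)
  have h1 : ∀ v (hv : v ∈ K), h v = F ⟨v, hv⟩ := fun v hv => LinearMap.congr_fun hh ⟨v, hv⟩
  exact ⟨h, fun a v hv => by rw [h1 _ (K.smul_mem a hv), h1 v hv, ← F.map_smul]; rfl, h1⟩

/-- The norm of a linear map. -/
def nm (D : A) (m : ℕ) (θ : U →ₗ[k] X) : U →ₗ[k] X :=
  ∑ i ∈ range m, act k X (D ^ (m - 1 - i)) ∘ₗ θ ∘ₗ act k U (D ^ i)

theorem nm_apply (θ : U →ₗ[k] X) (v : U) :
    nm D m θ v = ∑ i ∈ range m, D ^ (m - 1 - i) • θ (D ^ i • v) := by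
  simp [nm]

theorem nm_smul (θ : U →ₗ[k] X) (h1 : θ (D ^ m • v) = 0) (h2 : D ^ m • θ v = 0) :
    nm D m θ (D • v) = D • nm D m θ v := by
  have e1 := sum_range_succ (fun i => D ^ (m - i) • θ (D ^ i • v)) m
  have e2 := sum_range_succ' (fun i => D ^ (m - i) • θ (D ^ i • v)) m
  rw [h1, smul_zero, add_zero] at e1
  rw [pow_zero, one_smul, Nat.sub_zero, h2, add_zero, e1] at e2
  rw [nm_apply, nm_apply, smul_sum, sum_congr rfl fun i hi =>
    pw1 (c := m - i) (by have := mem_range.1 hi; omega) _, e2]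
  exact sum_congr rfl fun i _ => by rw [pw1' rfl, Nat.sub_sub, add_comm 1]

theorem exists_dual (h0 : D ^ (m + 1) • u = 0) (h1 : D ^ m • u ∉ im k D (m + 1) ⊤) :
    ∃ l : U →ₗ[k] k, (∀ w, l (D ^ (m + 1) • w) = 0) ∧ l (D ^ m • u) = 1 ∧
      ∀ i < m, l (D ^ i • u) = 0 := by
  suffices H : ∀ j ≤ m, ∃ l : U →ₗ[k] k, (∀ w, l (D ^ (m + 1) • w) = 0) ∧ l (D ^ m • u) = 1 ∧
      ∀ i < m, m ≤ i + j → l (D ^ i • u) = 0 from
    (H m le_rfl).imp fun l h => ⟨h.1, h.2.1, fun i hi => h.2.2 i hi (by omega)⟩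
  intro j
  induction j with
  | zero =>
    obtain ⟨l, h2, h3⟩ := LinearMap.exists_extend_of_notMem (0 : im k D (m + 1) ⊤ →ₗ[k] k) h1 1
    exact fun _ => ⟨l, fun w => LinearMap.congr_fun h2 ⟨_, smul_mem_im trivial⟩, h3,
      fun i hi e => by omega⟩
  | succ j ih =>
    intro hj
    obtain ⟨l, h2, h3, h4⟩ := ih (by omega)
    have h5 : ∀ i w, m + 1 ≤ i → l (D ^ i • w) = 0 := fun i w hi => by
      rw [← pw (Nat.add_sub_cancel' hi), h2]
    refine ⟨l - l (D ^ (m - (j + 1)) • u) • l ∘ₗ act k U (D ^ (j + 1)), fun w => ?_, ?_,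
      fun i hi e => ?_⟩
    · simp [h2, pw rfl, h5 (j + 1 + (m + 1)) w (by omega)]
    · simp [h3, pw rfl, h5 (j + 1 + m) u (by omega)]
    · rcases e.eq_or_lt with e | e
      · simp [pw (show j + 1 + i = m by omega), h3, show m - (j + 1) = i by omega]
      · simp [pw rfl, h5 (j + 1 + i) u (by omega), h4 i hi (by omega)]

theorem surjective_of_sub_mem (hD : D ^ p = 0) {N : U →ₗ[k] U} (h1 : ∀ v, N (D • v) = D • N v)
    (h2 : ∀ v, N v - v ∈ im k D 1 ⊤) : Function.Surjective N := by
  have h3 := map_pow_smul h1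
  suffices H : ∀ i ≤ p, ∀ v, D ^ (p - i) • v ∈ LinearMap.range N from fun v => by
    simpa using H p le_rfl v
  intro i
  induction i with
  | zero => simp [hD]
  | succ i ih =>
    intro hi v
    obtain ⟨w, -, hw⟩ := h2 v
    have := sub_mem (LinearMap.mem_range_self N (D ^ (p - (i + 1)) • v)) (ih (by omega) w)
    rwa [h3, ← pw (show p - (i + 1) + 1 = p - i by omega), show D ^ 1 • w = _ from hw, ← smul_sub,
      sub_sub_cancel] at this

variable (k) in
/-- `K` is the direct sum of the Jordan block of size `n` generated by `u` and a free module. -/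
structure Blk (D : A) (p : ℕ) (K : Submodule A U) (n : ℕ) (u : U) : Prop where
  mem : u ∈ K
  pos : 0 < n
  le : n ≤ p
  zero : D ^ n • u = 0
  nmem : D ^ (n - 1) • u ∉ im k D n K
  ker : ∀ v ∈ K, D • v = 0 → ∃ c : k, v - c • D ^ (n - 1) • u ∈ im k D (p - 1) K

namespace Blk

theorem nmem' (h : Blk k D p K n u) (ha : a < n) : D ^ a • u ∉ im k D (a + 1) K := fun e =>
  h.nmem (by
    rw [← pw (show n - 1 - a + a = n - 1 by omega) u]
    exact pow_smul_mem_im (by omega) e)

theorem eq_zero (h : Blk k D p K n u) (ha : a < n) {c : k}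
    (e : c • D ^ a • u ∈ im k D (a + 1) K) : c = 0 := by_contra fun hc =>
  h.nmem' ha ((Submodule.smul_mem_iff _ hc).1 e)

theorem ker_pow (h : Blk k D p K n u) (hD : D ^ p = 0) (hm : m ≤ p) (hv : v ∈ K)
    (e : D ^ m • v = 0) : ∃ f : k[X], v - D ^ (n - m) • aeval D f • u ∈ im k D (p - m) K := by
  induction m generalizing v with
  | zero => exact ⟨0, by simp [show v = 0 by simpa using e]⟩
  | succ m ih =>
    obtain ⟨c, w, hw, h1⟩ := h.ker _ (K.smul_mem (D ^ m) hv) (by rw [pw1 rfl, e])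
    replace h1 : D ^ (p - 1) • w = _ := h1
    rcases lt_or_ge m n with h2 | h2
    · obtain ⟨f, hf⟩ := ih (by omega) (v := v - c • D ^ (n - (m + 1)) • u - D ^ (p - (m + 1)) • w)
        (sub_mem (sub_mem hv (K.smul_of_tower_mem c (K.smul_mem _ h.mem))) (K.smul_mem _ hw)) (by
          rw [smul_sub, smul_sub, smul_comm _ c, pw (show _ = n - 1 by omega),
            pw (show _ = p - 1 by omega), h1, sub_self])
      refine ⟨C c + Polynomial.X * f, ?_⟩
      convert add_mem (im_anti (by omega) hf) (smul_mem_im (m := p - (m + 1)) hw) using 1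
      simp only [map_add, map_mul, aeval_C, aeval_X, add_smul, algebraMap_smul, mul_smul, smul_add,
        smul_comm _ c, pw1' (show n - (m + 1) + 1 = n - m by omega)]
      abel
    · obtain rfl : c = 0 := h.eq_zero (a := n - 1) (by have := h.pos; omega) (by
        rw [← sub_sub_cancel (D ^ m • v) (c • _), ← h1]
        exact sub_mem (smul_mem_im' (by have := h.pos; omega) hv)
          (smul_mem_im' (by have := h.pos; omega) hw))
      obtain ⟨f, hf⟩ := ih (by omega) (v := v - D ^ (p - (m + 1)) • w)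
        (sub_mem hv (K.smul_mem _ hw)) (by
          rw [smul_sub, pw (show _ = p - 1 by omega), h1, zero_smul, sub_zero, sub_self])
      refine ⟨f, ?_⟩
      convert add_mem (im_anti (by omega) hf) (smul_mem_im (m := p - (m + 1)) hw) using 1
      rw [show n - (m + 1) = n - m by omega]
      abel

theorem ker_pred (h : Blk k D p K n u) (hD : D ^ p = 0) (hv : v ∈ K)
    (e : D ^ (p - 1) • v = 0) : ∃ c : k, v - c • u ∈ im k D 1 K := by
  obtain ⟨f, hf⟩ := h.ker_pow hD (Nat.sub_le p 1) hv e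
  have h1 := h.pos
  have h2 := h.le
  replace hf := im_anti (show 1 ≤ p - (p - 1) by omega) hf
  rcases Nat.eq_zero_or_pos (n - (p - 1)) with h3 | h3
  · refine ⟨f.coeff 0, ?_⟩
    convert add_mem hf (smul_mem_im (m := 1) (K.smul_mem (aeval D f.divX) h.mem)) using 1
    rw [h3, pow_zero, one_smul, aeval_smul, pow_one]
    abel
  · exact ⟨0, by simpa using add_mem hf (smul_mem_im' h3 (K.smul_mem (aeval D f) h.mem))⟩

theorem sub (h : Blk k D p K n u) : Blk k D p (⊤ : Submodule A K) n ⟨u, h.mem⟩ :=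
  ⟨trivial, h.pos, h.le, Subtype.ext h.zero,
    fun ⟨w, _, e⟩ => h.nmem ⟨w, w.2, congrArg Subtype.val e⟩, fun v _ e => by
      obtain ⟨c, w, hw, h1⟩ := h.ker v v.2 (congrArg Subtype.val e)
      exact ⟨c, ⟨w, hw⟩, trivial, Subtype.ext h1⟩⟩

theorem exists_nm_top [FiniteDimensional k U] (h : Blk k D p ⊤ n u) (hD : D ^ p = 0)
    {F : U →ₗ[k] X} (hF : ∀ v, F (D • v) = D • F v)
    (hu : F u ∈ im k D (p - n) (⊤ : Submodule A X)) : ∃ θ, nm D p θ = F := by
  obtain ⟨ξ, -, hξ⟩ := hu
  have hp := h.le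
  obtain ⟨n, rfl⟩ := Nat.exists_eq_succ_of_ne_zero h.pos.ne'
  obtain ⟨l, h1, h2, -⟩ := exists_dual h.zero h.nmem
  have hF' := map_pow_smul hF
  obtain ⟨s, hs⟩ := exists_comp_eq_of_ker_le (act k U (D ^ (p - 1))) ((im k D 1 ⊤).mkQ ∘ₗ
    (1 - (l ∘ₗ act k U (D ^ n)).smulRight u)) fun v hv => by
      obtain ⟨c, w, -, hw⟩ := h.ker_pred hD trivial hv
      replace hw : D ^ 1 • w + c • u = v := eq_sub_iff_add_eq.1 hw
      have : l (D ^ n • v) = c := by
        rw [← hw, smul_add, pw rfl, map_add, h1, smul_comm, map_smul, h2]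
        simp
      rw [LinearMap.mem_ker, LinearMap.comp_apply, Submodule.mkQ_apply,
        Submodule.Quotient.mk_eq_zero, LinearMap.sub_apply, LinearMap.smulRight_apply,
        LinearMap.comp_apply, act_apply, this, End.one_apply, ← hw, add_sub_cancel_right]
      exact smul_mem_im trivial
  obtain ⟨s', hs'⟩ := exists_lift_range (im k D 1 (⊤ : Submodule A U)).mkQ s fun v => by simp
  have hN : ∀ v, (nm D (n + 1) (l.smulRight u) + nm D p s') (D • v) =
      D • (nm D (n + 1) (l.smulRight u) + nm D p s') v := fun v => by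
    rw [LinearMap.add_apply, LinearMap.add_apply, smul_add,
      nm_smul _ (by simp [h1]) (by simp [smul_comm _ (l v), h.zero]),
      nm_smul _ (by simp [hD]) (by simp [hD])]
  have hb := surjective_of_sub_mem hD hN fun v => by
    obtain ⟨p, rfl⟩ := Nat.exists_eq_succ_of_ne_zero (show p ≠ 0 by omega)
    have h3 := (hs' _).trans (hs v)
    have h4 : ∀ n i, i ∈ range n → 1 ≤ n + 1 - 1 - i := fun n i hi => by
      have := mem_range.1 hi
      omega
    simp only [LinearMap.comp_apply, Submodule.mkQ_apply, Submodule.Quotient.eq] at h3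
    rw [LinearMap.add_apply, nm_apply, nm_apply, sum_range_succ, sum_range_succ]
    convert add_mem (add_mem (sum_mem fun i hi => smul_mem_im' (D := D) (k := k) (K := ⊤) (m := 1)
      (n := n + 1 - 1 - i) (w := l.smulRight u (D ^ i • v)) (h4 n i hi) trivial)
      (sum_mem fun i hi => smul_mem_im' (D := D) (k := k) (K := ⊤) (m := 1)
      (n := p + 1 - 1 - i) (w := s' (D ^ i • v)) (h4 p i hi) trivial)) h3
      using 1
    simp
    abel
  set N := nm D (n + 1) (l.smulRight u) + nm D p s' with hN'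
  let e := LinearEquiv.ofBijective N ⟨LinearMap.injective_iff_surjective.2 hb, hb⟩
  have he : ∀ (i : ℕ) v, e.symm (D ^ i • e v) = D ^ i • v := fun i => by
    induction i with
    | zero => simp
    | succ i ih =>
      intro v
      rw [← pw1' rfl, ← pw1' rfl, ← ih (D • v)]
      exact congrArg (fun z => e.symm (D ^ i • z)) (hN v).symm
  refine ⟨(l.smulRight ξ + F ∘ₗ s') ∘ₗ e.symm, LinearMap.ext fun v => ?_⟩
  obtain ⟨v, rfl⟩ := e.surjective v
  conv_rhs => rw [show e v = N v from rfl, hN', LinearMap.add_apply, map_add, nm_apply, nm_apply,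
    map_sum, map_sum]
  simp only [nm_apply, LinearMap.comp_apply, LinearEquiv.coe_coe, he,
    LinearMap.add_apply, smul_add, sum_add_distrib, hF', LinearMap.smulRight_apply, map_smul]
  refine congrArg (· + _) ?_
  rw [← sum_subset (range_subset_range.2 hp) fun i _ hi => by
    rw [← pw (show n + 1 + (i - (n + 1)) = i by have := mem_range.not.1 hi; omega), h1, zero_smul,
      smul_zero]]
  exact sum_congr rfl fun i hi => by
    rw [← show D ^ (p - (n + 1)) • ξ = F u from hξ, smul_comm _ (l _), smul_comm _ (l _), pw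
      (show _ = p - 1 - i by have := mem_range.1 hi; omega)]

theorem exists_nm [FiniteDimensional k U] (h : Blk k D p K n u) (hD : D ^ p = 0)
    {F : U →ₗ[k] X} (hF : Eqv K F) (hu : F u ∈ im k D (p - n) (⊤ : Submodule A X)) :
    ∃ θ : U →ₗ[k] X, ∀ v ∈ K, nm D p θ v = F v := by
  have : FiniteDimensional k K := inferInstanceAs (FiniteDimensional k (K.restrictScalars k))
  obtain ⟨θ, hθ⟩ := h.sub.exists_nm_top hD (F := hF.lin.restrictScalars k)
    (fun v => hF.lin.map_smul D v) hu
  obtain ⟨θ', h1⟩ := LinearMap.exists_extend (p := K.restrictScalars k) θ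
  refine ⟨θ', fun v hv => Eq.trans ?_ (LinearMap.congr_fun hθ ⟨v, hv⟩)⟩
  rw [nm_apply, nm_apply]
  exact sum_congr rfl fun i _ => congrArg _ (LinearMap.congr_fun h1 ⟨_, K.smul_mem _ hv⟩)

theorem shift (h : Blk k D p K n u) (hD : D ^ p = 0) (hn : n < p) {u' : U}
    (e : u' - u ∈ im k D (p - n) K) : Blk k D p K n u' := by
  have h0 := h.pos
  have h1 : D ^ (n - 1) • u' - D ^ (n - 1) • u ∈ im k D (p - 1) K := by
    rw [← smul_sub]
    exact pow_smul_mem_im (by omega) e
  refine ⟨by simpa using add_mem (mem_of_im e) h.mem, h0, h.le, ?_,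
    fun h2 => h.nmem (by simpa using sub_mem h2 (im_anti (by omega) h1)), fun v hv h2 => ?_⟩
  · have := eq_zero_of_im hD le_rfl (pow_smul_mem_im (a := n) (by omega) e)
    rwa [smul_sub, h.zero, sub_zero] at this
  · obtain ⟨c, hc⟩ := h.ker v hv h2
    exact ⟨c, by simpa [smul_sub] using sub_mem hc (Submodule.smul_mem _ c h1)⟩

variable {u' : X} {h : U →ₗ[k] X}

theorem ker_aux (hD : D ^ p = 0) (hS : Blk k D p ⊤ m u') (hh : Eqv K h)
    (hs : ∀ s, ∃ v ∈ K, h v = s) (hw : w ∈ K) (hw' : h w - u' ∈ im k D 1 ⊤) (hv : v ∈ K)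
    (e : D ^ (p - 1) • h v = 0) :
    ∃ c : k, D ^ (p - 1) • v - c • D ^ (p - 1) • w ∈ im k D (p - 1) hh.ker := by
  obtain ⟨c, hc⟩ := hS.ker_pred hD trivial e
  obtain ⟨s, -, h1⟩ := sub_mem hc (Submodule.smul_mem _ c hw')
  obtain ⟨z, hz, rfl⟩ := hs s
  have h2 := hS.pos
  have h3 := hS.le
  refine ⟨c, v - c • w - D ^ 1 • z, ⟨sub_mem (sub_mem hv (K.smul_of_tower_mem c hw))
    (K.smul_mem _ hz), ?_⟩, ?_⟩
  · rw [map_sub, hh _ _ hz, show D ^ 1 • h z = _ from h1, map_sub, map_smul, smul_sub]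
    abel
  · rw [act_apply, smul_sub, pw (show _ = p by omega), hD, zero_smul, sub_zero, smul_sub,
      smul_comm _ c]

/-- The kernel of a stable monomorphism. -/
theorem ker_mono (hK : Blk k D p K n u) (hD : D ^ p = 0) (hS : Blk k D p ⊤ m u') (hh : Eqv K h)
    (hs : ∀ s, ∃ v ∈ K, h v = s) (hq : n + q = m) (hq0 : 0 < q) (hm : m < p) (hw : w ∈ K)
    (hw' : h w - u' ∈ im k D (p - m) ⊤) (hu : h u = D ^ q • h w) :
    Blk k D p hh.ker (p - q) (u - D ^ q • w) := by
  have h0 := hK.pos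
  have h1 : D ^ (p - q - 1) • (u - D ^ q • w) = -(D ^ (p - 1) • w) := by
    rw [smul_sub, pw0 hK.zero (by omega), pw (show _ = p - 1 by omega), zero_sub]
  refine ⟨⟨sub_mem hK.mem (K.smul_mem _ hw), by rw [map_sub, hu, hh _ _ hw, sub_self]⟩, by omega,
    by omega, by rw [smul_sub, pw0 hK.zero (by omega), pw rfl, pwp hD (by omega), sub_zero],
    fun ⟨z, hz, e⟩ => ?_, fun v hv e => ?_⟩
  · obtain ⟨f, hf⟩ := hK.ker_pow hD (Nat.sub_le p q) (v := D ^ (q - 1) • w + z)
      (add_mem (K.smul_mem _ hw) hz.1) (by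
        rw [smul_add, pw (show _ = p - 1 by omega), show D ^ (p - q) • z = _ from e, h1,
          add_neg_cancel])
    have h2 := im_anti (show q ≤ p - (p - q) by omega) (hh.map_mem_im hf)
    rw [map_sub, map_add, hz.2, add_zero, hh _ _ hw, hh _ _ (K.smul_mem _ hK.mem), hh _ _ hK.mem,
      hu] at h2
    have h3 := sub_mem (add_mem h2 (pow_smul_mem_im (a := n - (p - q)) (by omega)
      (comm_smul_mem_im (commute_aeval D f) (smul_mem_im (m := q) (w := h w) trivial))))
      (pow_smul_mem_im (a := q - 1) (by omega) hw')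
    refine hS.nmem' (a := q - 1) (by omega) ?_
    simpa [smul_sub, show q - 1 + 1 = q by omega] using h3
  · obtain ⟨c, z, hz, h2⟩ := hK.ker v hv.1 e
    replace h2 : D ^ (p - 1) • z = _ := h2
    have h3 := congrArg h h2
    rw [map_sub, hv.2, hh _ _ hz, map_smul, hh _ _ hK.mem, hu, pw (show _ = m - 1 by omega),
      zero_sub] at h3
    obtain rfl : c = 0 := hS.eq_zero (a := m - 1) (by omega) (by
      have := sub_mem (neg_mem (smul_mem_im' (k := k) (D := D) (show m - 1 + 1 ≤ p - 1 by omega)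
        (w := h z) (K := ⊤) trivial))
        (Submodule.smul_mem _ c (pow_smul_mem_im (a := m - 1) (c := m - 1 + 1) (by omega) hw'))
      simpa [h3, smul_sub] using this)
    obtain ⟨c, hc⟩ := ker_aux hD hS hh hs hw (im_anti (by omega) hw') hz (by simpa using h3)
    exact ⟨-c, by simpa [h1, h2] using hc⟩

/-- The kernel of a stable epimorphism. -/
theorem ker_epi (hK : Blk k D p K n u) (hD : D ^ p = 0) (hS : Blk k D p ⊤ m u') (hh : Eqv K h)
    (hs : ∀ s, ∃ v ∈ K, h v = s) (hm : m < n) (hu : h u = u') :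
    Blk k D p hh.ker (n - m) (D ^ m • u) := by
  have h0 := hS.pos
  have h4 := hK.le
  have h1 : D ^ (n - m - 1) • D ^ m • u = D ^ (n - 1) • u := pw (by omega) u
  refine ⟨⟨K.smul_mem _ hK.mem, by rw [hh _ _ hK.mem, hu, hS.zero]⟩, by omega, by omega,
    by rw [pw (show _ = n by omega), hK.zero], fun ⟨z, hz, e⟩ => ?_, fun v hv e => ?_⟩
  · obtain ⟨f, hf⟩ := hK.ker_pow hD (m := n - m) (by omega) (v := D ^ (m - 1) • u - z)
      (sub_mem (K.smul_mem _ hK.mem) hz.1) (by
        rw [smul_sub, pw (show _ = n - 1 by omega), show D ^ (n - m) • z = _ from e, h1, sub_self])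
    have h2 := im_anti (show m ≤ p - (n - m) by omega) (hh.map_mem_im hf)
    rw [map_sub, map_sub, hz.2, sub_zero, hh _ _ hK.mem, hh _ _ (K.smul_mem _ hK.mem), hu] at h2
    exact hS.nmem (by simpa using add_mem h2 (smul_mem_im' (n := n - (n - m))
      (w := h (aeval D f • u)) (by omega) trivial))
  · obtain ⟨c, z, hz, h2⟩ := hK.ker v hv.1 e
    replace h2 : D ^ (p - 1) • z = _ := h2
    have h3 := congrArg h h2
    rw [map_sub, hv.2, hh _ _ hz, map_smul, hh _ _ hK.mem, hu, pw0 hS.zero (by omega), smul_zero,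
      sub_zero] at h3
    obtain ⟨c', hc⟩ := ker_aux hD hS hh hs hK.mem (by simp [hu]) hz h3
    rw [h1]
    rcases h4.eq_or_lt with rfl | h5
    · exact ⟨c + c', by rwa [h2, sub_sub, ← add_smul] at hc⟩
    · exact ⟨c, by rwa [h2, pw0 (b := p - 1) hK.zero (by omega), smul_zero, sub_zero] at hc⟩

theorem linearIndependent (hK : Blk k D p K n u) :
    LinearIndependent k fun j : Fin n => D ^ j.1 • u := by
  obtain ⟨n, rfl⟩ := Nat.exists_eq_succ_of_ne_zero hK.pos.ne'
  have h1 : ∀ j : ℕ, (act k U D ^ j) u = D ^ j • u := fun j => by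
    rw [act, ← map_pow]; rfl
  simpa only [h1] using linearIndependent_pow (t := act k U D) (v := u) (m := n)
    ((h1 _).trans hK.zero) fun e => hK.nmem (((h1 _).symm.trans e).symm ▸ zero_mem _)

/-- Without free part the module is spanned by the block. -/
theorem finrank_le (hK : Blk k D p K n u) (hD : D ^ p = 0) (h0 : ∀ v ∈ K, D ^ (p - 1) • v = 0) :
    finrank k K ≤ n := by
  have h1 : ∀ i ≤ n, ∀ v ∈ K, D ^ (n - i) • v ∈
      Submodule.span k (Set.range fun j : Fin n => D ^ j.1 • u) := fun i => by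
    induction i with
    | zero =>
      intro _ v hv
      have : D ^ n • v = 0 := by
        suffices H : ∀ j, D ^ n • v ∈ im k D (n + j) K from
          eq_zero_of_im hD (by omega) (H p)
        intro j
        induction j with
        | zero => exact smul_mem_im hv
        | succ j ih =>
          obtain ⟨w, hw, e⟩ := ih
          obtain ⟨c, hc⟩ := hK.ker_pred hD hw (h0 w hw)
          have := pow_smul_mem_im (a := n + j) (c := n + (j + 1)) (by omega) hc
          rwa [smul_sub, smul_comm _ c, pw0 hK.zero (by omega), smul_zero, sub_zero,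
            show D ^ (n + j) • w = _ from e] at this
      simp [this]
    | succ i ih =>
      intro hi v hv
      obtain ⟨c, w, hw, e⟩ := hK.ker_pred hD hv (h0 v hv)
      rw [← show D ^ 1 • w + c • u = v from eq_sub_iff_add_eq.1 e, smul_add, smul_comm _ c,
        pw (show _ = n - i by omega)]
      exact add_mem (ih (by omega) w hw) (Submodule.smul_mem _ _
        (Submodule.subset_span ⟨⟨n - (i + 1), by omega⟩, rfl⟩))
  have := FiniteDimensional.span_of_finite k (Set.finite_range fun j : Fin n => D ^ j.1 • u)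
  have := Submodule.finrank_mono (s := K.restrictScalars k) (t := Submodule.span k
    (Set.range fun j : Fin n => D ^ j.1 • u)) fun v hv => by simpa using h1 n le_rfl v hv
  exact this.trans ((finrank_range_le_card _).trans (by simp))

end Blk

end Cfsg.Lib.Blau
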