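import Cfsg.Agent.Lib.Blau.Count
import Cfsg.Agent.Lib.Cyc.HalfEq

/-!
# The local structure of a group with a Sylow subgroup of prime order
-/

set_option autoImplicit false

namespace Cfsg.Lib.Blau

open Finset Module Polynomial Cfsg.Lib.Cyc Subgroup MonoidAlgebra Cfsg.Lib.Modular Cfsg.Lib.Char
open scoped MatrixGroups

variable {k G V : Type*} [Field k] [Group G] [AddCommGroup V] [Module ℂ V] {p e : ℕ} {x : G}

theorem exists_poly {q : k[X]} (hq : q.coeff 0 = 1) (n : ℕ) :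
    ∃ g : k[X], X ^ (n + 1) ∣ X - X * q * g.comp (X * q) := by
  induction n with
  | zero => exact ⟨0, by simp⟩
  | succ n ih =>
    obtain ⟨g, r, hr⟩ := ih
    obtain ⟨s, hs⟩ : X ∣ r - C (r.coeff 0) * q ^ (n + 1) := by
      simp [X_dvd_iff, coeff_zero_eq_eval_zero, ← coeff_zero_eq_eval_zero q, hq]
    refine ⟨g + C (r.coeff 0) * X ^ n, s, ?_⟩
    simp only [add_comp, mul_comp, C_comp, pow_comp, X_comp]
    linear_combination hr + X ^ (n + 1) * hs

variable [hp : Fact p.Prime] [Finite G] (hx : orderOf x = p) (hsq : ¬ p ^ 2 ∣ Nat.card G)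
include hx

theorem card_conj {y : G} (hy : y ∈ zpowers x) (h1 : y ≠ 1) :
    Nat.card {z // z ∈ zpowers x ∧ IsConj y z} =
      (centralizer (zpowers x : Set G)).relIndex (normalizer (zpowers x : Set G)) := by
  classical
  have := Fintype.ofFinite G
  have hR : Nat.card (zpowers x) = p := (Nat.card_zpowers x).trans hx
  obtain ⟨A, h2, h3, h4⟩ := exists_cls hR hy h1
  rw [← h2, ← Fintype.card_coe, ← Nat.card_eq_fintype_card]
  refine Nat.card_congr (Equiv.subtypeEquivRight fun z => ⟨fun ⟨h5, h6⟩ => by_contra fun h7 => ?_,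
    h3 z⟩)
  obtain ⟨g, rfl⟩ := isConj_iff.1 h6
  have h8 := h4 fun z => if z = g * y * g⁻¹ then 1 else 0
  rw [sum_ite_eq', if_neg h7, mul_zero, sum_boole, Nat.cast_eq_zero, card_eq_zero,
    filter_eq_empty_iff] at h8
  obtain ⟨i, hi⟩ := (eq_zpowers_of_card hR hy h1).le h5
  exact h8 (mem_filter.2 ⟨mem_univ g, eq_zpowers_of_card hR hy h1 ▸
    PGroup.mem_normalizer_zpowers hi.symm⟩) rfl

include hsq

theorem card_classes : Nat.card {c : ConjClasses G // ∃ g : G, ConjClasses.mk g = c ∧ orderOf g = p} *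
    (centralizer (zpowers x : Set G)).relIndex (normalizer (zpowers x : Set G)) = p - 1 := by
  classical
  have hR : Nat.card (zpowers x) = p := (Nat.card_zpowers x).trans hx
  obtain ⟨P, hP⟩ := exists_sylow_eq_zpowers hx hsq
  have := Fintype.ofFinite (zpowers x)
  rw [show p - 1 = Nat.card {y : zpowers x // ¬ y = 1} by
    rw [Nat.card_eq_fintype_card, Fintype.card_subtype_compl, Fintype.card_subtype_eq,
      ← Nat.card_eq_fintype_card, hR]]
  refine (PGroup.card_eq_mul_of_fibers (fun y => ⟨ConjClasses.mk (y.1 : G), _, rfl,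
    orderOf_eq_of_card hR y.1.2 fun e => y.2 (Subtype.ext e)⟩) _ ?_).symm
  rintro ⟨_, g, rfl, hg⟩
  obtain ⟨y, h1, h2⟩ := exists_isConj_mem_sylow P (x := g) ⟨1, by rw [hg, pow_one]⟩
  have h3 : ∀ z, IsConj g z → z ≠ 1 := fun z hz e => hp.out.ne_one (by
    rw [← hg, isConj_one_left.1 (show IsConj g 1 from e ▸ hz), orderOf_one])
  rw [← card_conj hx (hP.le h1) (h3 y h2)]
  exact Nat.card_congr ⟨fun a => ⟨a.1.1, a.1.1.2, h2.symm.trans
    (ConjClasses.mk_eq_mk_iff_isConj.1 (congrArg Subtype.val a.2)).symm⟩,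
    fun b => ⟨⟨⟨b.1, b.2.1⟩, fun e => h3 _ (h2.trans b.2.2) (congrArg Subtype.val e)⟩,
      Subtype.ext (ConjClasses.mk_eq_mk_iff_isConj.2 (h2.trans b.2.2).symm)⟩, fun _ => rfl,
    fun _ => rfl⟩

variable (hn : ¬ (zpowers x).Normal)
include hn

theorem not_dvd_of_center {z : G} (hz : z ∈ center G) : ¬ p ∣ orderOf z := fun h => by
  obtain ⟨P, hP⟩ := exists_sylow_eq_zpowers hx hsq
  rw [eq_zpowers_of_card ((Nat.card_zpowers x).trans hx) (hP.le (pPart_mem_sylow P
    (center_le_centralizer _ hz))) ((pPart_ne_one_iff hp.out).2 h)] at hn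
  exact hn (normal_of_le_center' (zpowers_le.2 (pPart_mem p hz)))

theorem exists_ctx [CharP k p] (hC : ∀ y ∈ centralizer (zpowers x : Set G), ∃ z ∈ center G,
    ∃ w ∈ zpowers x, z * w = y)
    (he : (centralizer (zpowers x : Set G)).relIndex (normalizer (zpowers x : Set G)) = e) :
    ∃ (E : Subgroup G) (α : E →* kˣ) (D : k[G]), Ctx p e x E α D ∧
      ∀ l : E →* kˣ, (∀ g : E, (g : G) ∈ center G → l g = 1) → ∃ i : ℕ, l = α ^ i := by
  have hR : Nat.card (zpowers x) = p := (Nat.card_zpowers x).trans hx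
  obtain ⟨t, t1, t2, t3⟩ := exists_generator hR (le_refl (normalizer (zpowers x : Set G)))
  have h0 := relIndex_dvd_pred hR (le_refl (normalizer (zpowers x : Set G)))
  rw [he] at t2 h0
  set E := center G ⊔ zpowers (t ^ p)
  have := Fintype.ofFinite E
  have h1 : ∀ g ∈ E, ∃ z ∈ center G, ∃ i : ℕ, z * (t ^ p) ^ i = g := fun g hg => by
    obtain ⟨z, hz, _, hw, rfl⟩ := mem_sup_of_normal_left.1 hg
    obtain ⟨i, rfl⟩ := mem_powers_iff_mem_zpowers.2 hw
    exact ⟨z, hz, i, rfl⟩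
  have h2 : ∀ g ∈ E, ¬ p ∣ orderOf g := fun g hg h => by
    obtain ⟨z, hz, i, rfl⟩ := h1 g hg
    exact ((Nat.Prime.dvd_mul hp.out).1 (h.trans (Commute.orderOf_mul_dvd_mul_orderOf
      (mem_center_iff.1 hz _).symm))).elim (not_dvd_of_center hx hsq hn hz) fun h =>
        not_dvd_orderOf_pow hsq t (h.trans (orderOf_pow_dvd i))
  have h3 : (Nat.card E : k) ≠ 0 := mt (CharP.cast_eq_zero_iff k p _).1 fun h => by
    obtain ⟨g, hg, h⟩ := Small.exists_mem_orderOf_eq_prime hp.out h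
    exact h2 g hg h.symm.dvd
  choose a ha using fun g : E => exists_conj_eq_pow ((show E ≤ normalizer (zpowers x : Set G) from
    sup_le (center_le_normalizer _) (zpowers_le.2 (pow_mem t1 p))) g.2)
  have h4 : ∀ i j : ℕ, (i : k) = j ↔ x ^ i = x ^ j := fun i j => by
    rw [pow_eq_pow_iff_modEq, hx, CharP.natCast_eq_natCast k p]
  let α := (⟨⟨fun g => a g, by rw [← Nat.cast_one, h4, ← ha]; simp⟩, fun g h => by
    rw [← Nat.cast_mul, h4, pow_mul, ← ha, ← ha, conj_pow, ← ha, Subgroup.coe_mul]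
    group⟩ : E →* k).toHomUnits
  have h5 : ∀ g, (α g : k) = a g := fun _ => rfl
  have h6 : ∀ g : E, α g = 1 ↔ (g : G) ∈ centralizer (zpowers x : Set G) := fun g => by
    rw [Units.ext_iff, h5, Units.val_one, ← Nat.cast_one, h4, ← ha, pow_one, mul_inv_eq_iff_eq_mul,
      mem_centralizer_zpowers, commute_iff_eq]
  let s : E := ⟨t ^ p, mem_sup_right (mem_zpowers _)⟩
  have h7 : ∀ n, α s ^ n = 1 ↔ e ∣ n := fun n => by
    rw [← map_pow, h6, Subgroup.coe_pow, ← pow_mul, t2]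
    exact Nat.Coprime.dvd_mul_left (Nat.Coprime.coprime_dvd_left h0
      ((Nat.coprime_self_sub_left hp.out.one_le).2 (Nat.coprime_one_left p)))
  have h8 : ∀ l l' : E →* kˣ, (∀ g : E, (g : G) ∈ center G → l g = l' g) → l s = l' s → l = l' :=
    fun l l' h h' => MonoidHom.ext fun g => by
      obtain ⟨z, hz, i, hg⟩ := h1 g g.2
      rw [show g = ⟨z, mem_sup_left hz⟩ * s ^ i from Subtype.ext hg.symm, map_mul, map_mul,
        map_pow, map_pow, h _ hz, h']
  have h9 : ∀ (n : ℕ) (g : E), (g : G) ∈ center G → (α ^ n) g = 1 := fun n g hg => by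
    rw [MonoidHom.pow_apply, (h6 g).2 (center_le_centralizer _ hg), one_pow]
  let q : k[X] := ∑ g : E, C ((Nat.card E : k)⁻¹ * α g⁻¹) * ∑ i ∈ range (a g), (X + 1) ^ i
  have h10 : (of k G x - 1) * aeval (of k G x - 1) q =
      (Nat.card E : k)⁻¹ • ∑ g : E, (α g⁻¹ : k) • (of k G (g * x * (g : G)⁻¹) - 1) := by
    simp only [q, map_sum, map_mul, aeval_C, map_pow, map_add, aeval_X, map_one, sub_add_cancel,
      mul_sum, smul_sum, ← Algebra.smul_def, ha]
    exact sum_congr rfl fun g _ => by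
      simp only [mul_smul_comm, ← smul_sum, ← mul_sum, smul_mul_assoc, ← Algebra.smul_def,
        mul_geom_sum]
  obtain ⟨f, r, hr⟩ := exists_poly (q := q) (by
    simp only [q, coeff_zero_eq_eval_zero, eval_finset_sum, eval_mul, eval_C, eval_pow, eval_add,
      eval_X, eval_one, zero_add, one_pow, sum_const, card_range, nsmul_one, ← h5, mul_assoc,
      ← Units.val_mul, ← map_mul, inv_mul_cancel, map_one, Units.val_one, mul_one, card_univ,
      ← Nat.card_eq_fintype_card, nsmul_eq_mul, mul_inv_cancel₀ h3]) (p - 1)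
  refine ⟨E, α, _, ⟨hx, hsq, h3, fun g h => Subtype.ext ?_, fun g hg => ?_, ?_, fun g => ?_, ⟨q, rfl⟩,
    f, ?_⟩, fun l hl => ?_⟩
  · obtain ⟨z, hz, i, hg⟩ := h1 g g.2
    obtain ⟨z', hz', j, hh⟩ := h1 h h.2
    rw [Subgroup.coe_mul, Subgroup.coe_mul, ← hg, ← hh]
    exact (Commute.mul_left (mem_center_iff.1 hz _).symm
      (Commute.mul_right (mem_center_iff.1 hz' _) (Commute.pow_pow_self _ i j))).eq
  · obtain ⟨i, c, hc, h⟩ := t3 _ (inv_mem hg)
    obtain ⟨z, hz, w, hw, h'⟩ := hC _ (mul_mem ((t2 ((p - 1) * i)).2 (h0.mul_right i)) (inv_mem hc))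
    obtain ⟨j, rfl⟩ := mem_powers_iff_mem_zpowers.2 hw
    refine ⟨(s ^ i)⁻¹ * ⟨z, mem_sup_left hz⟩, j, ?_⟩
    rw [Subgroup.coe_mul, mul_assoc, h', ← inv_inj, h, Subgroup.coe_inv, Subgroup.coe_pow, ← pow_mul,
      show p * i = (p - 1) * i + i by rw [← Nat.succ_mul, Nat.succ_eq_add_one,
        Nat.sub_add_cancel hp.out.one_le], pow_add]
    group
  · exact Nat.dvd_antisymm (orderOf_dvd_of_pow_eq_one (h8 _ _ (h9 e) ((h7 e).2 dvd_rfl)))
      ((h7 _).1 (DFunLike.congr_fun (pow_orderOf_eq_one α) s))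
  · rw [h10, mul_smul_comm, smul_mul_assoc, smul_comm (α g : k), mul_sum, sum_mul,
      smul_sum (r := (α g : k))]
    refine congrArg _ (Fintype.sum_equiv (Equiv.mulLeft g) _ _ fun h => ?_)
    rw [Equiv.coe_mulLeft, smul_mul_assoc, smul_smul, ← Units.val_mul, mul_comm (α g), ← map_mul,
      mul_inv_rev g, inv_mul_cancel_right, mul_smul_comm, mul_sub_one, sub_one_mul, ← map_mul,
      ← map_mul, Subgroup.coe_mul]
    group
  · have := congrArg (aeval (of k G x - 1)) hr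
    have h11 := sub_one_pow_eq (k := k) (p := p) (of k G x) 1
    rw [pow_one, ← map_pow, ← hx, pow_orderOf_eq_one, map_one, sub_self, hx] at h11
    rwa [Nat.sub_add_cancel hp.out.one_le, map_mul, map_pow, aeval_X, h11, zero_mul, map_sub, aeval_X,
      sub_eq_zero, map_mul, aeval_comp, map_mul, aeval_X] at this
  · have : NeZero e := ⟨he ▸ index_ne_zero_of_finite⟩
    obtain ⟨z, hz, w, hw, h⟩ := hC _ ((h6 (s ^ e)).1 (by rw [map_pow, h7]))
    have h11 : w = 1 := by_contra fun h11 => h2 w ((mul_mem_cancel_left (mem_sup_left hz)).1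
      (h ▸ (s ^ e).2)) (orderOf_eq_of_card hR hw h11).symm.dvd
    obtain ⟨i, -, hi⟩ := (IsPrimitiveRoot.coe_units_iff.2 ⟨(h7 e).2 dvd_rfl, fun n => (h7 n).1⟩
      ).eq_pow_of_pow_eq_one (ξ := (l s : k)) (by
        rw [← Units.val_pow_eq_pow_val, ← map_pow, hl _ (by rwa [← h, h11, mul_one]), Units.val_one])
    exact ⟨i, h8 _ _ (fun g hg => (hl g hg).trans (h9 i g hg).symm) (Units.ext hi.symm)⟩

variable [FiniteDimensional ℂ V] (ρ : Representation ℂ G V) (hρ : Function.Injective ρ)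
  (hd : finrank ℂ V + 2 ≤ p)
include hρ hd

theorem perf : x ∈ closure {g | g ∈ normalClosure ({x} : Set G) ∧ ¬ p ∣ orderOf g} := by
  set K := closure {g | g ∈ normalClosure ({x} : Set G) ∧ ¬ p ∣ orderOf g}
  have hR : Nat.card (zpowers x) = p := (Nat.card_zpowers x).trans hx
  have : K.Normal := ⟨fun n hn g => by
    refine (show K ≤ K.comap (MulAut.conj g).toMonoidHom from (closure_le _).2 fun y hy => ?_) hn
    exact subset_closure ⟨normalClosure_normal.conj_mem _ hy.1 g, by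
      rw [MulEquiv.toMonoidHom_eq_coe, MonoidHom.coe_coe, MulEquiv.orderOf_eq]; exact hy.2⟩⟩
  obtain ⟨P, hP⟩ := exists_sylow_eq_zpowers hx hsq
  by_contra h
  have h1 := le_centralizer_of_small P (by rwa [hP]) (isCharacter_character ρ)
    (fun g hg => hρ (((character_eq_character_one_iff ρ g).1 hg).trans ρ.map_one.symm))
    (by rwa [charDegree_character]) (K := K) fun h1 => by
      obtain ⟨y, h1, h2⟩ := Small.exists_mem_orderOf_eq_prime hp.out h1
      obtain ⟨_, h3, h4⟩ := exists_isConj_mem_sylow P (x := y) ⟨1, by rw [h2, pow_one]⟩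
      obtain ⟨g, rfl⟩ := isConj_iff.1 h4
      exact h (zpowers_le.2 (this.conj_mem y h1 g) ((eq_zpowers_of_card hR (hP.le h3) fun e =>
        hp.out.ne_one (by rw [← h2, conj_eq_one_iff.1 e, orderOf_one])).le (mem_zpowers x)))
  have h2 : IsPGroup p ((normalClosure {x}).map (QuotientGroup.mk' K)) := by
    rintro ⟨_, g, hg, rfl⟩
    refine ⟨1, Subtype.ext ((QuotientGroup.eq_one_iff (g ^ p ^ 1)).2 (subset_closure
      ⟨pow_mem hg _, by rw [pow_one]; exact not_dvd_orderOf_pow hsq g⟩))⟩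
  obtain ⟨n, h3⟩ := h2.exists_card_eq
  have h4 : QuotientGroup.mk' K x ≠ 1 := mt (QuotientGroup.eq_one_iff x).1 h
  have h5 : QuotientGroup.mk' K x ∈ (normalClosure {x}).map (QuotientGroup.mk' K) :=
    mem_map_of_mem _ (subset_normalClosure rfl)
  have h6 := eq_zpowers_of_card (p := p) (by
    rcases n with _ | _ | n
    · exact absurd (mem_bot.1 ((card_eq_one.1 h3).le h5)) h4
    · rw [h3, zero_add, pow_one]
    · exact absurd ((pow_dvd_pow p (by omega)).trans (h3 ▸ (card_subgroup_dvd_card _).trans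
        (card_quotient_dvd_card K))) hsq) h5 h4
  refine hn (normalizer_eq_top_iff.1 (eq_top_iff.2 fun g _ => ?_))
  obtain ⟨i, hi⟩ := h6.le (mem_map_of_mem _
    (normalClosure_normal.conj_mem x (subset_normalClosure (Set.mem_singleton x)) g))
  have h7 := h1 ((QuotientGroup.eq (a := x ^ i) (b := g * x * g⁻¹)).1
    ((map_zpow (QuotientGroup.mk' K) x i).trans hi))
  have h8 := pPart_mem_sylow P ((mul_mem_cancel_left (inv_mem (zpow_mem (by
    rw [hP, mem_centralizer_zpowers]) i))).1 h7)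
  rw [pPart_of_pElt hp.out ⟨1, by rw [pow_one, ← hx]; exact (MulAut.conj g).orderOf_eq x⟩,
    hP] at h8
  obtain ⟨j, hj⟩ := h8
  exact PGroup.mem_normalizer_zpowers hj.symm

omit hn in
theorem psl_facts (h3 : 3 < p) {ψ : normalClosure ({x} : Set G) →* PSL(2, ZMod p)}
    (hψ : Function.Surjective ψ) : ψ.ker ≤ center _ ∧ center PSL(2, ZMod p) = ⊥ ∧
      ∃ J : Finset (ZMod p), p ≤ 2 * #J + 1 ∧ ∀ j ∈ J, ∃ g ∈ normalClosure {x},
        g * x * g⁻¹ = x ^ j.val := by
  have h : x ∈ normalClosure {x} := subset_normalClosure rfl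
  have h1 := normalClosure_eq_top hx hsq rfl h
  have := PSL2.isSimpleGroup_psl (F := ZMod p) (by rwa [Nat.card_zmod])
  have h4 : ψ ⟨x, h⟩ ≠ 1 := fun e => by
    obtain ⟨g, hg⟩ := exists_ne (1 : PSL(2, ZMod p))
    obtain ⟨g, rfl⟩ := hψ g
    exact hg ((show ⊤ ≤ ψ.ker from h1 ▸ normalClosure_le_normal (Set.singleton_subset_iff.2 e))
      (mem_top g))
  have h5 : orderOf (⟨x, h⟩ : normalClosure {x}) = p := (orderOf_mk ..).trans hx
  have h6 := hρ.comp (normalClosure {x}).subtype_injective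
  have h7 : ¬ p ^ 2 ∣ Nat.card (normalClosure ({x} : Set G)) := fun h =>
    hsq (h.trans (card_subgroup_dvd_card _))
  have h9 : (⟨x, h⟩ : normalClosure {x}) ^ p = 1 := h5 ▸ pow_orderOf_eq_one _
  obtain ⟨y, h10, -, ⟨g, hg⟩, h11⟩ := psl_unip
    (orderOf_eq_prime (p := p) (by rw [← map_pow, h9, map_one]) h4)
  obtain ⟨J, h12, h13⟩ := exists_squares (p := p)
  refine ⟨(ker_le_center (ρ.comp (Subgroup.subtype _)) h6 h5 h7 ψ h1 h4 hd).2,
    (this.eq_bot_or_eq_top_of_normal (center _) inferInstance).resolve_right fun e => hg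
      ((h10 g).1 (center_le_normalizer _ (e.ge (mem_top g)))), J, h12, fun j hj => ?_⟩
  obtain ⟨a, ha, rfl⟩ := h13 j hj
  obtain ⟨g, hg⟩ := h11 a ha
  obtain ⟨g, rfl⟩ := hψ g
  rw [← map_inv, ← map_mul, ← map_mul, ← map_pow] at hg
  exact ⟨g, g.2, congrArg Subtype.val (eq_of_map_eq (ρ.comp (Subgroup.subtype _)) h6 h5 h7 ψ h1 h4 hd
    (by rw [conj_pow, h9, mul_one, mul_inv_cancel]) (by rw [pow_right_comm, h9, one_pow]) hg)⟩

omit hn hsq hρ hd [FiniteDimensional ℂ V] in
theorem card_le_relIndex (J : Finset (ZMod p)) (hJ : ∀ j ∈ J, ∃ g, g * x * g⁻¹ = x ^ j.val) :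
    #J ≤ (centralizer (zpowers x : Set G)).relIndex (normalizer (zpowers x : Set G)) := by
  rw [← card_conj hx (mem_zpowers x) fun e => hp.out.ne_one (by rw [← hx, e, orderOf_one]),
    ← Fintype.card_coe, ← Nat.card_eq_fintype_card]
  exact Nat.card_le_card_of_injective (fun j => ⟨x ^ j.1.val, pow_mem (mem_zpowers x) _,
    isConj_iff.2 (hJ j j.2)⟩) fun i j e => Subtype.ext (ZMod.val_injective p
      (pow_injOn_Iio_orderOf ((ZMod.val_lt _).trans_eq hx.symm)
        ((ZMod.val_lt _).trans_eq hx.symm) (congrArg Subtype.val e)))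

omit hn in
theorem le_of_psl (h3 : 3 < p) {ψ : normalClosure ({x} : Set G) →* PSL(2, ZMod p)}
    (hψ : Function.Surjective ψ) :
    p ≤ 2 * (centralizer (zpowers x : Set G)).relIndex (normalizer (zpowers x : Set G)) + 1 := by
  obtain ⟨-, -, J, h1, h2⟩ := psl_facts hx hsq ρ hρ hd h3 hψ
  have := card_le_relIndex hx J fun j hj => (h2 j hj).imp fun _ => And.right
  omega

omit hn in
theorem equiv_of_psl (h3 : 3 < p) {ψ : normalClosure ({x} : Set G) →* PSL(2, ZMod p)}
    (hψ : Function.Surjective ψ) (hC : ∀ y ∈ centralizer (zpowers x : Set G), ∃ z ∈ center G,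
      ∃ w ∈ zpowers x, z * w = y)
    (he : 2 * (centralizer (zpowers x : Set G)).relIndex (normalizer (zpowers x : Set G)) < p) :
    Nonempty (G ⧸ center G ≃* PSL(2, ZMod p)) := by
  classical
  obtain ⟨h1, h2, J, h4, h5⟩ := psl_facts hx hsq ρ hρ hd h3 hψ
  have h0 : x ∈ normalClosure {x} := subset_normalClosure rfl
  have h6 : ∀ g, ∃ a ∈ normalClosure {x}, ∃ z ∈ center G, a * z = g := fun g => by
    obtain ⟨a, ha, b, hb, rfl⟩ := exists_mul_normalizer hx hsq g
    obtain ⟨i, hi⟩ := exists_conj_eq_pow hb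
    rw [← pow_mod_orderOf, hx, ← ZMod.val_natCast] at hi
    obtain ⟨c, hc, h6⟩ := h5 i (by_contra fun h => by
      have := card_le_relIndex hx (insert (i : ZMod p) J) fun j hj => by
        rcases mem_insert.1 hj with rfl | hj
        exacts [⟨b, hi⟩, (h5 j hj).imp fun _ => And.right]
      rw [card_insert_of_notMem h] at this
      omega)
    obtain ⟨z, hz, w, hw, h7⟩ := hC (c⁻¹ * b) (mem_centralizer_zpowers.2 (by
      rw [Commute, SemiconjBy, mul_assoc, mul_inv_eq_iff_eq_mul.1 hi, ← h6]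
      group))
    refine ⟨a * c * w, mul_mem (mul_mem ha hc) (zpowers_le.2 h0 hw), z, hz, ?_⟩
    rw [mul_assoc, mem_center_iff.1 hz, h7]
    group
  have h8 : Function.Surjective ((QuotientGroup.mk' (center G)).comp
      (normalClosure ({x} : Set G)).subtype) := fun g => by
    obtain ⟨g, rfl⟩ := QuotientGroup.mk_surjective g
    obtain ⟨a, ha, z, hz, rfl⟩ := h6 g
    exact ⟨⟨a, ha⟩, QuotientGroup.eq.2 (by simpa using hz)⟩
  refine ⟨(QuotientGroup.quotientKerEquivOfSurjective _ h8).symm.trans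
    ((QuotientGroup.quotientMulEquivOfEq (le_antisymm (fun z hz => ?_) fun z hz => ?_)).trans
      (QuotientGroup.quotientKerEquivOfSurjective _ hψ))⟩
  · refine h2.le (mem_center_iff.2 fun g => ?_)
    obtain ⟨g, rfl⟩ := hψ g
    rw [← map_mul, ← map_mul]
    exact congrArg ψ (Subtype.ext (mem_center_iff.1 ((QuotientGroup.eq_one_iff (z : G)).1 hz) g))
  · refine (QuotientGroup.eq_one_iff (z : G)).2 (mem_center_iff.2 fun g => ?_)
    obtain ⟨a, ha, c, hc, rfl⟩ := h6 g
    exact Commute.mul_left (congrArg Subtype.val (mem_center_iff.1 (h1 hz) ⟨a, ha⟩))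
      (mem_center_iff.1 hc _).symm

end Cfsg.Lib.Blau
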