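import Cfsg.Agent.Lib.Blau.Hom
import Cfsg.Agent.Lib.Blau.Setup

/-!
# Simple sections of the reduction of a complex representation
-/

set_option autoImplicit false

namespace Cfsg.Lib.Blau

open Finset Module Polynomial Cfsg.Lib.Cyc Subgroup MonoidAlgebra Representation
open scoped MatrixGroups

universe u

variable {k : Type u} {G V : Type*} [Field k] [Group G] [AddCommGroup V] [Module ℂ V] {p e : ℕ}
  {x g : G} [hp : Fact p.Prime]

theorem exists_field (p : ℕ) [Fact p.Prime] : ∃ (O : ValuationSubring ℂ) (k : Type) (_ : Field k)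
    (_ : IsAlgClosed k) (_ : CharP k p), Nonempty (O →+* k) := by
  obtain ⟨O, hO⟩ := OddChar.exists_valuationSubring p
  exact ⟨O, AlgebraicClosure (IsLocalRing.ResidueField O), inferInstance, inferInstance,
    inferInstance, ⟨(algebraMap _ _).comp (IsLocalRing.residue O)⟩⟩

omit hp in
theorem mem_of_pow_eq_one (O : ValuationSubring ℂ) {n : ℕ} (hn : n ≠ 0) {c : ℂ} (h : c ^ n = 1) :
    c ∈ O := (O.mem_or_inv_mem c).elim id fun h1 => by
  have := pow_mem h1 (n - 1)
  rwa [inv_pow, ← eq_inv_of_mul_eq_one_left (show c * c ^ (n - 1) = 1 by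
    rw [← pow_succ', Nat.sub_add_cancel (Nat.pos_of_ne_zero hn), h])] at this

omit hp in
theorem exists_section {U : Type*} [AddCommGroup U] [Module k U] [Module k[G] U]
    [IsScalarTower k k[G] U] [FiniteDimensional k U] (hg : (orderOf g : k) ≠ 0)
    (h : ∃ v : U, of k G g • v ≠ v) : ∃ (K : Submodule k[G] U) (K' : Submodule k[G] K),
      IsSimpleModule k[G] (K ⧸ K') ∧ rep k G (K ⧸ K') g ≠ 1 := by
  have := isArtinian_of_tower k (S := k[G]) (M := U) inferInstance
  have := isNoetherian_of_tower k (S := k[G]) (M := U) inferInstance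
  obtain ⟨K, ⟨v, hv, h1⟩, h2⟩ := IsArtinian.set_has_minimal
    {K : Submodule k[G] U | ∃ v ∈ K, of k G g • v ≠ v} ⟨⊤, h.imp fun _ h => ⟨trivial, h⟩⟩
  obtain ⟨K', h3, -⟩ := (eq_top_or_exists_le_coatom (⊥ : Submodule k[G] K)).resolve_left fun e =>
    h1 (by
      rw [show v = 0 from congrArg Subtype.val
        ((Submodule.mem_bot _).1 (e.ge (Submodule.mem_top (x := ⟨v, hv⟩)))), smul_zero])
  refine ⟨K, K', isSimpleModule_iff_isCoatom.2 h3, fun e => h1 ?_⟩
  have h4 : of k G g • (of k G g • v - v) = of k G g • v - v := by_contra fun h4 =>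
    h2 (K'.map K.subtype) ⟨_, ⟨_, (Submodule.Quotient.eq K').1
      (LinearMap.congr_fun e (Submodule.Quotient.mk ⟨v, hv⟩)), rfl⟩, h4⟩
      ((Submodule.map_strictMono_of_injective K.subtype_injective h3.lt_top).trans_eq
        K.map_subtype_top)
  have h5 : ∀ n : ℕ, of k G (g ^ n) • v = v + (n : k) • (of k G g • v - v) := fun n => by
    induction n with
    | zero => simp [← MonoidAlgebra.one_def]
    | succ n ih =>
      rw [pow_succ', map_mul, mul_smul, ih, smul_add, smul_comm, h4, Nat.cast_succ, add_smul,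
        one_smul]
      abel
  have := h5 (orderOf g)
  rwa [pow_orderOf_eq_one, map_one, one_smul, left_eq_add, smul_eq_zero_iff_right hg,
    sub_eq_zero] at this

variable [CharP k p] [Finite G]

theorem finrank_le_of_pow {U : Type*} [AddCommGroup U] [Module k U] [FiniteDimensional k U]
    (ρ : Representation k G U) (hx : orderOf x = p) (hsq : ¬ p ^ 2 ∣ Nat.card G)
    (hgen : normalClosure {x} = ⊤) (hS : ∀ φ, (∀ g, Commute (ρ g) φ) → ∃ c : k, φ = c • 1)
    (hd : finrank k U < p) (he : 2 * e ≤ p) (h3 : 1 < p - 1) (h0 : (ρ x - 1) ^ e = 0) :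
    finrank k U ≤ e := by
  by_contra! h
  obtain ⟨m, hm⟩ := Nat.exists_eq_succ_of_ne_zero (h.trans_le' e.zero_le).ne'
  obtain ⟨hi, hfree⟩ := ti_of_not_sq_dvd hx hsq
  obtain ⟨W, h1, h2, h3, -⟩ := exists_summand (j := 0) (linHom ρ ρ) (hx.trans (pow_one p).symm) hi
    hfree (by rw [pow_one]; omega) (linHom_sub_one_pow ρ h0 (by rw [pow_one]; omega))
  refine pow_pred_ne_zero (p := p) ⟨_, h0⟩ hm (by omega) (fun φ hφ => ?_)
    (pow_eq_zero_of_le (by omega) h0)
  obtain ⟨w, h4, -, u, h5⟩ := h3 φ (mem_fil_zero.2 ((linHom_sub_one_eq_zero ρ).2 hφ))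
  obtain ⟨c, rfl⟩ := hS w fun g => (linHom_eq_iff ρ g w).1 (fix_of_normalClosure _ hgen (fun g => by
    rw [map_mul, map_mul, End.mul_apply, End.mul_apply, show linHom ρ ρ x (linHom ρ ρ g⁻¹ w) =
      linHom ρ ρ g⁻¹ w from sub_eq_zero.1 (h2 _ (h1 g⁻¹ h4)), self_inv_apply]) g)
  refine ⟨c, fun ψ hψ => ?_⟩
  have h6 := form_pow_eq_zero _ (trForm_linHom ρ x) 1 u
    (by rw [pow_one]; exact (linHom_sub_one_eq_zero ρ).2 hψ)
  rw [h5, map_sub, LinearMap.sub_apply, sub_eq_zero, pow_zero, End.one_apply, trForm_apply,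
    smul_mul_assoc, one_mul, map_smul] at h6
  exact h6.symm

variable [FiniteDimensional ℂ V] (ρ : Representation ℂ G V) (hρ : Function.Injective ρ)

omit hp in
theorem exists_red {O : ValuationSubring ℂ} (r : O →+* k) :
    ∃ σ : Representation k G (Fin (finrank ℂ V) → k), (∀ g, ¬ p ∣ orderOf g → σ g = 1 → ρ g = 1) ∧
      ∀ g (f : O[X]), aeval (ρ g) (f.map O.subtype) = 0 → aeval (σ g) (f.map r) = 0 := by
  obtain ⟨b, hb⟩ := exists_integral_basis ρ O
  have hi : Function.Injective (O.subtype.mapMatrix (m := Fin (finrank ℂ V))) :=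
    Matrix.map_injective Subtype.val_injective
  let A₀ : G → Matrix _ _ O := fun g => .of fun i j => ⟨_, hb g i j⟩
  have hA : ∀ g, O.subtype.mapMatrix (A₀ g) = LinearMap.toMatrixAlgEquiv b (ρ g) := fun _ => rfl
  let A : G →* Matrix _ _ O :=
    ⟨⟨A₀, hi (by simp only [hA, map_one])⟩, fun g h => hi (by simp only [hA, map_mul])⟩
  have h0 : ∀ {R : Type _} [CommRing R] (φ : O →+* R) (M : Matrix (Fin (finrank ℂ V)) _ O) (f : O[X]),
      φ.mapMatrix (aeval M f) = aeval (φ.mapMatrix M) (f.map φ) := fun φ M f =>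
    map_aeval_eq_aeval_map (RingHom.ext fun c => by
      simp [Matrix.algebraMap_eq_diagonal, Pi.algebraMap_def]) f M
  refine ⟨(Matrix.toLinAlgEquiv' : _ ≃ₐ[k] _).toMulEquiv.toMonoidHom.comp
    (r.mapMatrix.toMonoidHom.comp A), fun g hg h => ?_, fun g f h => ?_⟩
  · have h1 : r.mapMatrix (A g) = 1 := Matrix.toLinAlgEquiv'.injective (h.trans (map_one _).symm)
    have h2 := geom_sum_mul (A g) (orderOf g)
    rw [← map_pow, pow_orderOf_eq_one, map_one, sub_self] at h2
    have h3 : (∑ i ∈ range (orderOf g), A g ^ i).det ≠ 0 := fun e => by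
      have := congrArg r e
      rw [r.map_det, map_sum] at this
      simp only [map_pow, h1, one_pow, sum_const, card_range, ← Nat.cast_smul_eq_nsmul k,
        Matrix.det_smul, Matrix.det_one, mul_one, map_zero] at this
      exact hg ((CharP.cast_eq_zero_iff k p _).1 (pow_eq_zero_iff' .. |>.1 this).1)
    have h4 := congrArg ((∑ i ∈ range (orderOf g), A g ^ i).adjugate * ·) h2
    simp only [← mul_assoc, Matrix.adjugate_mul, mul_zero, smul_mul_assoc, one_mul, smul_eq_zero, h3,
      false_or, sub_eq_zero] at h4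
    refine (LinearMap.toMatrixAlgEquiv b).injective ?_
    rw [← hA, map_one, show A₀ g = 1 from h4, map_one]
  · have h1 : aeval (A₀ g) f = 0 := hi (by
      rw [map_aeval_eq_aeval_map (φ := O.subtype) (RingHom.ext fun c => by
        simp [Matrix.algebraMap_eq_diagonal, Pi.algebraMap_def]) f, hA, aeval_algHom_apply, h,
        map_zero, map_zero])
    change aeval (Matrix.toLinAlgEquiv' (r.mapMatrix (A₀ g))) _ = 0
    rw [aeval_algHom_apply, ← h0, h1, map_zero, map_zero]

include hρ in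
theorem exists_red_simple {O : ValuationSubring ℂ} (r : O →+* k) (hg : ¬ p ∣ orderOf g)
    (h1 : g ≠ 1) : ∃ (S : Type u) (_ : AddCommGroup S) (_ : Module k S) (_ : Module k[G] S)
    (_ : IsScalarTower k k[G] S) (_ : FiniteDimensional k S) (_ : IsSimpleModule k[G] S),
      finrank k S ≤ finrank ℂ V ∧ rep k G S g ≠ 1 ∧ ∀ y (f : O[X]),
        aeval (ρ y) (f.map O.subtype) = 0 → aeval (rep k G S y) (f.map r) = 0 := by
  obtain ⟨σ, h2, h3⟩ := exists_red (p := p) ρ r
  obtain ⟨K, K', h4, h5⟩ := exists_section (U := Md σ) (mt (CharP.cast_eq_zero_iff k p _).1 hg) (by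
    by_contra! h
    exact h1 (hρ ((h2 g hg (LinearMap.ext fun v => (Md.ev_of σ g v).symm.trans
      (congrArg _ (h v)))).trans ρ.map_one.symm)))
  have : FiniteDimensional k K := inferInstanceAs (FiniteDimensional k (K.restrictScalars k))
  have h6 : Function.Surjective (K'.mkQ.restrictScalars k) := K'.mkQ_surjective
  refine ⟨_, _, _, _, _, Module.Finite.of_surjective _ h6, h4, (LinearMap.finrank_le_finrank_of_surjective
    h6).trans ((K.restrictScalars k).finrank_le.trans (finrank_fin_fun k).le), h5,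
    fun y f h => LinearMap.ext fun s => ?_⟩
  obtain ⟨v, rfl⟩ := K'.mkQ_surjective s
  have h7 := aeval_algHom_apply σ.asAlgebraHom (of k G y) (f.map r)
  rw [asAlgebraHom_of, h3 y f h] at h7
  refine (LinearMap.congr_fun (aeval_algHom_apply (Algebra.lsmul k k _) (of k G y) _) _).trans ?_
  rw [Algebra.lsmul_apply, ← map_smul, show aeval (of k G y) (f.map r) • v = 0 from
    Subtype.ext (LinearMap.congr_fun h7.symm _), map_zero, LinearMap.zero_apply]

omit [Finite G] [CharP k p] in
theorem aeval_prod_eq_zero (hx : x ^ p = 1) {J : Finset ℂ} (hJ : ∀ ω ∈ J, ω ^ p = 1) {m : ℂ}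
    (h : ∀ i, ρ.character (x ^ i) = m * ∑ ω ∈ J, ω ^ i) :
    aeval (ρ x) (∏ ω ∈ J, (X - C ω)) = 0 := by
  have h1 : ∀ f : ℂ[X], LinearMap.trace ℂ V (aeval (ρ x) f) = m * ∑ ω ∈ J, f.eval ω := fun f => by
    induction f using Polynomial.induction_on' with
    | add f g hf hg => simp only [map_add, hf, hg, eval_add, sum_add_distrib, mul_add]
    | monomial n c =>
      simp only [aeval_monomial, ← Algebra.smul_def, map_smul, ← map_pow, eval_monomial, ← mul_sum]
      rw [mul_left_comm, ← h]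
      rfl
  obtain ⟨q, hq⟩ : ∏ ω ∈ J, (X - C ω) ∣ X ^ p - C 1 := prod_dvd_of_coprime
    (fun _ _ _ _ e => pairwise_coprime_X_sub_C Function.injective_id e)
    fun ω hω => dvd_iff_isRoot.2 (by simp [hJ ω hω])
  obtain ⟨a, b, hab⟩ := (hq ▸ separable_X_pow_sub_C (1 : ℂ) (Nat.cast_ne_zero.2 hp.out.ne_zero)
    one_ne_zero).isCoprime
  set f := ∏ ω ∈ J, (X - C ω)
  have h2 : aeval (ρ x) (f * q) = 0 := by
    rw [← hq, map_sub, map_pow, aeval_X, ← map_pow, hx, map_one, aeval_C, map_one, sub_self]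
  have h3 : aeval (ρ x) (a * f) = 0 := LinearMap.IsIdempotentElem.eq_zero_of_trace_eq_zero (by
    rw [IsIdempotentElem, ← map_mul, show a * f * (a * f) = a * f - a * b * (f * q) by
      linear_combination a * f * hab, map_sub, map_mul _ (a * b), h2, mul_zero, sub_zero]) (by
    rw [h1, sum_eq_zero fun ω hω => by
      rw [eval_mul, eval_prod, prod_eq_zero hω (by simp), mul_zero], mul_zero])
  rw [show f = f * (a * f) + b * (f * q) by linear_combination -f * hab, map_add, map_mul, h3,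
    map_mul _ b, h2, mul_zero, mul_zero, add_zero]

variable (hx : orderOf x = p) (hsq : ¬ p ^ 2 ∣ Nat.card G) (hn : ¬ (zpowers x).Normal)
  (hd : finrank ℂ V + 2 ≤ p)
include hρ hx hsq hn hd

theorem exists_reg : ∃ g ∈ normalClosure ({x} : Set G), ¬ p ∣ orderOf g ∧ g ≠ 1 := by
  by_contra! h
  exact hp.out.ne_one (by rw [← hx, mem_bot.1 ((closure_le ⊥).2 (fun g hg => h g hg.1 hg.2)
    (perf hx hsq hn ρ hρ hd)), orderOf_one])

theorem psl_of_eig {J : Finset ℂ} (hJ : ∀ ω ∈ J, ω ^ p = 1) {m : ℂ}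
    (h : ∀ i, ρ.character (x ^ i) = m * ∑ ω ∈ J, ω ^ i) (he : 2 * #J ≤ p) (h3 : 3 < p) :
    ∃ ψ : normalClosure ({x} : Set G) →* PSL(2, ZMod p), Function.Surjective ψ := by
  obtain ⟨O, k, _, _, _, ⟨r⟩⟩ := exists_field p
  obtain ⟨g, h1, h2, h4⟩ := exists_reg ρ hρ hx hsq hn hd
  obtain ⟨S, _, _, _, _, _, _, h5, h6, h7⟩ := exists_red_simple (g := ⟨g, h1⟩)
    (ρ.comp (normalClosure {x}).subtype) (hρ.comp (Subgroup.subtype_injective _)) r
    (by rwa [orderOf_mk]) (mt Subtype.ext_iff.1 h4)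
  have h0 : x ∈ normalClosure {x} := subset_normalClosure rfl
  have h8 := normalClosure_eq_top hx hsq rfl h0
  have h9 := h7 ⟨x, h0⟩ (∏ ω : J, (X - C ⟨ω, mem_of_pow_eq_one O hp.out.ne_zero (hJ ω ω.2)⟩)) (by
    simpa [Polynomial.map_prod, prod_attach J fun ω => X - C ω] using
      aeval_prod_eq_zero ρ (hx ▸ pow_orderOf_eq_one x) hJ h)
  rw [Polynomial.map_prod, prod_congr rfl (g := fun _ => X - 1) fun ω _ => by
    rw [Polynomial.map_sub, map_X, map_C, eq_one_of_pow_char (p := p) (a := r _) (by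
      rw [← map_pow, ← map_one r]; exact congrArg r (Subtype.ext (hJ ω ω.2))), map_one],
    prod_const, card_univ, Fintype.card_coe, map_pow, map_sub, aeval_X, map_one] at h9
  have h10 : ∀ φ, (∀ g, Commute (rep k _ S g) φ) → ∃ c : k, φ = c • 1 := fun φ hφ => by
    obtain ⟨c, hc⟩ := (IsSimpleModule.algebraMap_end_bijective_of_isAlgClosed k).2
      (eqv_of_of (G := normalClosure ({x} : Set G)) (K := ⊤) (F := φ) fun g v _ =>
        (LinearMap.congr_fun (hφ g) v).symm).top
    exact ⟨c, LinearMap.ext fun v => (LinearMap.congr_fun hc v).symm⟩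
  have h11 : ¬ p ^ 2 ∣ Nat.card (normalClosure ({x} : Set G)) := fun h =>
    hsq (h.trans (card_subgroup_dvd_card _))
  have h12 := (orderOf_mk x h0).trans hx
  have := finrank_le_of_pow _ h12 h11 h8 h10 (by omega) he (by omega) h9
  exact (exists_psl_of_small _ h12 h11 h8 h10 (fun e => h6 ((show ⊤ ≤ (rep k _ S).ker from
    h8 ▸ normalClosure_le_normal (Set.singleton_subset_iff.2 e)) (mem_top _))) (by omega)).2

theorem Ctx.exists_blk [IsAlgClosed k] {E : Subgroup G} {α : E →* kˣ} {D : k[G]}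
    (h : Ctx p e x E α D) (hN : NS p x) (hd' : finrank ℂ V + e = p) (he : 2 * e < p)
    {O : ValuationSubring ℂ} (r : O →+* k) : ∃ (S : Type u) (_ : AddCommGroup S) (_ : Module k S)
      (_ : Module k[G] S) (_ : IsScalarTower k k[G] S) (_ : IsSimpleModule k[G] S) (u : S)
      (l : E →* kˣ), Blk k D p ⊤ (p - e) u ∧ finrank k S = p - e ∧ u ∈ wt S l ∧
        ∀ (z : E) (c : O), ρ z = (c : ℂ) • 1 → l z = r c := by
  have := Fintype.ofFinite E
  obtain ⟨g, h1, h2, h4⟩ := exists_reg ρ hρ hx hsq hn hd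
  obtain ⟨S, _, _, _, _, _, _, h5, h6, h7⟩ := exists_red_simple ρ hρ r h2 h4
  have h8 : ∀ s : S, D ^ (p - 1) • s = 0 := LinearMap.congr_fun (g := 0) (f := act k S _) (by
    rw [act, map_pow]
    exact pow_eq_zero_of_le (by omega) (pow_finrank_eq_zero ⟨p, by
      rw [← map_pow, h.pow_p, map_zero]⟩))
  obtain ⟨v, h9, h10⟩ : ∃ v : S, v ≠ 0 ∧ D • v = 0 := by
    by_contra! h9
    have h10 : ∀ (n : ℕ) (v : S), D ^ n • v = 0 → v = 0 := fun n => by
      induction n with
      | zero => simp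
      | succ n ih => exact fun v hv => by_contra fun e => h9 v e (ih _ (by rwa [pw1' rfl]))
    exact h6 (LinearMap.ext fun s => by rw [h10 _ s (h8 s), map_zero, map_zero])
  obtain ⟨l, hl⟩ := h.exists_pj (W := ⊥) h9
  obtain ⟨n, u, h11, h12, h13⟩ := h.simple_blk (pj_mem (l := l) v) (by
    have := h.pj_pow (l := l) 1 v
    rwa [pow_one, h10, smul_zero, eq_comm] at this) fun ⟨w, _, e⟩ => hl (by
      rw [← e, act_apply, h8]; exact zero_mem _)
  have h14 := (finrank_top k S).symm.trans_le (h12.finrank_le h.pow_p fun v _ => h8 v)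
  have h15 := (Fintype.card_fin n).symm.trans_le h12.linearIndependent.fintype_card_le_finrank
  obtain rfl : n = p - e := by
    rcases le_or_gt n e with h16 | h16
    · exact absurd ((show normalClosure {x} ≤ (rep k G S).ker from normalClosure_le_normal
        (Set.singleton_subset_iff.2 (LinearMap.ext fun s => h.of_smul_eq
          (hN.small h (by omega) s) (mem_zpowers x)))) h1) h6
    by_contra h17
    have := h.hom_simple (q := e) h12 h13 h12 h11 h13 (by
      rw [← h.ord, pow_orderOf_eq_one]; exact mul_one _) (by omega) h16 (by omega)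
    omega
  refine ⟨S, _, _, _, _, ‹_›, u, _, h12, by omega, h13, fun z c hz => ?_⟩
  have h16 := LinearMap.congr_fun (h7 z (X - C c) (by simp [hz, Algebra.algebraMap_eq_smul_one])) u
  simp only [Polynomial.map_sub, map_X, map_C, map_sub, aeval_X, aeval_C, LinearMap.sub_apply,
    rep_apply, h13 z, Module.algebraMap_end_apply, LinearMap.zero_apply, sub_eq_zero] at h16
  exact smul_left_injective k (fun e => h12.nmem (by rw [e, smul_zero]; exact zero_mem _)) h16

end Cfsg.Lib.Blau
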