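import Cfsg.Agent.Lib.Blau.Ctx

/-!
# Simple modules and Green correspondents
-/

set_option autoImplicit false

namespace Cfsg.Lib.Blau

open Finset Module Cfsg.Lib.Cyc Subgroup MonoidAlgebra

universe u v

variable {k : Type u} {G : Type v} {U X : Type*} [Field k] [Group G]
  [AddCommGroup U] [Module k U] [Module k[G] U] [IsScalarTower k k[G] U]
  [AddCommGroup X] [Module k X] [Module k[G] X] [IsScalarTower k k[G] X]
  {p e m n q : ℕ} {x y : G} {E : Subgroup G} {α l l' : E →* kˣ} {D : k[G]} {K : Submodule k[G] U}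
  {u v w : U} {ξ u' : X}

theorem Eqv.surj [IsSimpleModule k[G] X] {F : U →ₗ[k] X} (hF : Eqv K F) (hv : v ∈ K)
    (h : F v ≠ 0) (s : X) : ∃ w ∈ K, F w = s := by
  obtain ⟨w, hw⟩ := LinearMap.surjective_of_ne_zero (f := hF.lin)
    (fun e => h (LinearMap.congr_fun e ⟨v, hv⟩)) s
  exact ⟨w, w.2, hw⟩

theorem mem_im_of_bij {F : U →ₗ[k[G]] X} (hF : Function.Bijective F)
    (h : F v ∈ im k D n (⊤ : Submodule k[G] X)) : v ∈ im k D n (⊤ : Submodule k[G] U) := by
  obtain ⟨z, -, hz⟩ := h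
  obtain ⟨z, rfl⟩ := hF.2 z
  exact ⟨z, trivial, hF.1 ((F.map_smul _ _).trans hz)⟩

namespace Ctx

variable (h : Ctx p e x E α D)
include h

theorem of_smul_mem_im (g : E) (hv : v ∈ im k D m K) : of k G g • v ∈ im k D m K := by
  obtain ⟨w, hw, rfl⟩ := hv
  rw [act_apply, smul_smul, h.conj_pow, smul_assoc, mul_smul]
  exact Submodule.smul_mem _ _ (smul_mem_im (K.smul_mem _ hw))

theorem unique (hK : Blk k D p K m u) (hm : m < p) (hu : u ∈ wt U l') (hv : v ∈ K)
    (hv' : v ∈ wt U l) (hn : 0 < n) (hnp : n < p) (h0 : D ^ n • v = 0)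
    (h1 : D ^ (n - 1) • v ∉ im k D n K) : n = m ∧ l = l' := by
  obtain ⟨c, hc⟩ := hK.ker _ (K.smul_mem (D ^ (n - 1)) hv) (by rw [pw1 (c := n) (by omega), h0])
  have h2 := hK.pos
  have h3 : c ≠ 0 := fun e => h1 (im_anti (n := p - 1) (by omega) (by simpa [e] using hc))
  obtain rfl : n = m := by
    rcases lt_trichotomy n m with h4 | h4 | h4
    · have := add_mem (im_anti (show n ≤ p - 1 by omega) hc)
        (Submodule.smul_mem _ c (smul_mem_im' (show n ≤ m - 1 by omega) hK.mem))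
      exact absurd (by simpa using this) h1
    · exact h4
    · exact absurd (hK.eq_zero (a := m - 1) (by omega) (by
        simpa using sub_mem (smul_mem_im' (show m - 1 + 1 ≤ n - 1 by omega) hv)
          (im_anti (by omega) hc))) h3
  refine ⟨rfl, mul_right_cancel (b := α ^ (n - 1)) (MonoidHom.ext fun g => Units.ext ?_)⟩
  have h4 := sub_mem (Submodule.smul_mem _ ((l * α ^ (n - 1)) g : k) hc) (h.of_smul_mem_im g hc)
  rw [smul_sub, smul_sub, h.pow_mem_wt hv' _ g, sub_sub_sub_cancel_left, smul_comm (of k G _),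
    h.pow_mem_wt hu _ g, smul_smul, smul_smul, ← sub_smul, mul_comm, ← sub_mul] at h4
  exact (sub_eq_zero.1 ((mul_eq_zero.1 (hK.eq_zero (a := n - 1) (by omega)
    (im_anti (by omega) h4))).resolve_right h3)).symm

theorem iso [IsSimpleModule k[G] U] [IsSimpleModule k[G] X] (hU : Blk k D p ⊤ n u) (hn : n < p)
    (hu : u ∈ wt U l) (hX : Blk k D p ⊤ m u') (hm : m < p) (hu' : u' ∈ wt X l')
    {F : U →ₗ[k[G]] X} (hF : F ≠ 0) : n = m ∧ l = l' :=
  h.unique hX hm hu' trivial (map_mem_wt F hu) hU.pos hn (by rw [← F.map_smul, hU.zero, map_zero])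
    fun e => hU.nmem (mem_im_of_bij (LinearMap.bijective_of_ne_zero hF) (by rwa [F.map_smul]))

variable [hp : Fact p.Prime] [CharP k p] [Finite G]

/-- There are no stable maps between distinct simple modules. -/
theorem hom_simple [IsSimpleModule k[G] U] [IsSimpleModule k[G] X] (hU : Blk k D p ⊤ n u)
    (hu : u ∈ wt U l) (hX : Blk k D p ⊤ m u') (hm : m < p) (hu' : u' ∈ wt X l')
    (hl : l' * α ^ q = l) (h1 : m ≤ q + n) (h2 : q < m) (h3 : q + n < p) :
    q = 0 ∧ n = m ∧ l = l' := by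
  obtain ⟨F, f1, f2, -⟩ := h.lift (K := ⊤) trivial hu hU.pos hU.zero hU.nmem (h.pow_mem_wt' hu' hl)
    (by rw [pw rfl, pw0 hX.zero (by omega)])
  have h4 : f1.top ≠ 0 := fun e => hX.nmem' h2 (im_anti (show q + 1 ≤ p - n by omega) (by
    simpa [show F u = 0 from LinearMap.congr_fun e u] using f2))
  refine ⟨by_contra fun h5 => hU.nmem' hU.pos (mem_im_of_bij (LinearMap.bijective_of_ne_zero h4) ?_),
    h.iso hU (by omega) hu hX hm hu' h4⟩
  simpa [Eqv.top] using add_mem (im_anti (show 1 ≤ p - n by omega) f2)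
    (mem_im_top (show 1 ≤ q by omega) u')

/-- The Green correspondent of a block. -/
theorem fitting [FiniteDimensional k U] (hu : u ∈ wt U l) (hn : 0 < n) (hnp : n < p)
    (h0 : D ^ n • u = 0) (h1 : D ^ (n - 1) • u ∉ im k D n ⊤) :
    ∃ φ : U →ₗ[k[G]] U, IsCompl (LinearMap.ker φ) (LinearMap.range φ) ∧
      Blk k D p (LinearMap.range φ) n (φ u) ∧ φ u - u ∈ im k D (p - n) ⊤ := by
  obtain ⟨F, f1, f2, f3⟩ := h.lift (K := ⊤) trivial hu hn h0 h1 hu h0
  have := isArtinian_of_tower k (S := k[G]) (M := U) inferInstance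
  have := isNoetherian_of_tower k (S := k[G]) (M := U) inferInstance
  set ψ : End k[G] U := f1.top
  obtain ⟨N, hN⟩ := Filter.eventually_atTop.1 ψ.eventually_isCompl_ker_pow_range_pow
  have h2 := hN _ N.le_succ
  have h3 : ∀ i, (ψ ^ i) u - u ∈ im k D (p - n) ⊤ := fun i => by
    induction i with
    | zero => simp
    | succ i ih => simpa [pow_succ', ψ, Eqv.top] using add_mem (map_mem_im ψ ih) f2
  have h4 : ∀ i j, D ^ (n - 1) • (ψ ^ i) u - D ^ (n - 1) • (ψ ^ j) u ∈ im k D (p - 1) ⊤ :=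
    fun i j => by
      rw [← smul_sub]
      exact pow_smul_mem_im (b := p - n) (by omega) (by simpa using sub_mem (h3 i) (h3 j))
  have h5 : ∀ v ∈ LinearMap.range (ψ ^ (N + 1)), (ψ ^ (N + 1)) v = 0 → v = 0 := fun v hv e =>
    Submodule.disjoint_def.1 h2.disjoint v e hv
  have h6 : ∀ v, ∃ a, (ψ ^ (N + 1)) a = 0 ∧ ∃ b ∈ LinearMap.range (ψ ^ (N + 1)), a + b = v :=
    fun v => Submodule.mem_sup.1 (h2.sup_eq_top ▸ Submodule.mem_top)
  refine ⟨ψ ^ (N + 1), h2, ⟨⟨u, rfl⟩, hn, hnp.le, by rw [← map_smul, h0, map_zero], fun e => h1 ?_,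
    fun v hv e => ?_⟩, h3 _⟩
  · simpa using sub_mem (im_mono le_top e) (im_anti (by omega) (h4 (N + 1) 0))
  · obtain ⟨v, rfl⟩ := hv
    obtain ⟨a, ha, v, hv, rfl⟩ := h6 v
    rw [map_add, ha, zero_add] at e ⊢
    obtain ⟨c, hc⟩ := f3 v trivial (h5 _ (Submodule.smul_mem _ _ hv) (by rwa [map_smul]))
    obtain ⟨w, -, hw⟩ := sub_mem (map_mem_im (ψ ^ N) hc) (Submodule.smul_mem _ c (h4 (N + 1) N))
    obtain ⟨a, ha, w, hw', rfl⟩ := h6 w
    have h7 : D ^ (p - 1) • a + D ^ (p - 1) • w =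
        (ψ ^ (N + 1)) v - c • D ^ (n - 1) • (ψ ^ (N + 1)) u := by
      rw [← smul_add, show D ^ (p - 1) • (a + w) = _ from hw, map_sub, LinearMap.map_smul_of_tower,
        map_smul, smul_sub, sub_sub_sub_cancel_right, pow_succ]
      rfl
    have h8 := h5 (D ^ (p - 1) • a) (by
      rw [eq_sub_of_add_eq h7]
      exact sub_mem (sub_mem ⟨v, rfl⟩ (Submodule.smul_of_tower_mem _ c
        (Submodule.smul_mem _ _ ⟨u, rfl⟩))) (Submodule.smul_mem _ _ hw'))
      (by rw [map_smul, ha, smul_zero])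
    exact ⟨c, w, hw', by rw [← h7, h8, zero_add, act_apply]⟩

theorem simple_blk [FiniteDimensional k U] [IsSimpleModule k[G] U] (hv : v ∈ wt U l)
    (h0 : D • v = 0) (h1 : v ∉ im k D (p - 1) ⊤) : ∃ (n : ℕ) (u : U), n < p ∧ Blk k D p ⊤ n u ∧
      u ∈ wt U (l * (α ^ (n - 1))⁻¹) := by
  classical
  have h2 : ∃ n, v ∉ im k D n ⊤ := ⟨_, h1⟩
  have h3 := Nat.find_spec h2
  have h4 := Nat.find_min' h2 h1
  have h5 := hp.out.two_le
  have h6 : Nat.find h2 ≠ 0 := fun e => h3 (e ▸ ⟨v, trivial, by simp⟩)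
  obtain ⟨u, -, h7, h8⟩ := h.exists_wt_of_im (l := l * (α ^ (Nat.find h2 - 1))⁻¹)
    (not_not.1 (Nat.find_min h2 (show Nat.find h2 - 1 < _ by omega))) 
    (Eq.mpr (congrArg (v ∈ wt U ·) (inv_mul_cancel_right l _)) hv)
  obtain ⟨φ, -, h9, -⟩ := h.fitting h7 h6.bot_lt (by omega)
    (by rw [← pw1 (Nat.sub_add_cancel h6.bot_lt), h8, h0]) (by rwa [h8])
  have h10 := (eq_bot_or_eq_top (LinearMap.range φ)).resolve_left fun e =>
    h9.nmem (by rw [(Submodule.mem_bot _).1 (e.le h9.mem), smul_zero]; exact zero_mem _)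
  rw [h10] at h9
  exact ⟨_, φ u, by omega, h9, map_mem_wt φ h7⟩

theorem exists_ind (l : E →* kˣ) : ∃ ε : k[G], ε ∈ wt k[G] l ∧ D • ε = 0 ∧
    ε ∉ im k D 1 (Submodule.span k[G] {ε}) := by
  classical
  have := Fintype.ofFinite E
  have := Fintype.ofFinite (zpowers x)
  have h1 : (of k G x - 1) ^ (p - 1) = ∑ y : zpowers x, of k G y := by
    have := sub_one_pow_pred (F := k) p (of k G x) 1
    rw [pow_one] at this
    simp only [this, sum_zpowers fun y => of k G y, h.ox, map_pow]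
  have h2 : (of k G x - 1) ^ (p - 1) * (of k G x - 1) = 0 := by
    have := sub_one_pow_eq (k := k) (p := p) (of k G x) 1
    rwa [pow_one, ← map_pow, ← h.ox, pow_orderOf_eq_one, map_one, sub_self, h.ox,
      ← Nat.sub_add_cancel hp.out.one_le, pow_succ] at this
  obtain ⟨w, w1, w2⟩ := h.Dτ
  refine ⟨pj l • (of k G x - 1) ^ (p - 1), pj_mem _, ?_, fun ⟨v, hv, e⟩ => ?_⟩
  · rw [← pow_one D, ← h.pj_pow, pow_one, w2, smul_eq_mul, smul_eq_mul, w1.eq, mul_assoc,
      ← pow_succ', pow_succ, h2, mul_zero, mul_zero]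
  have h3 : w * v * of k G x = w * v := by
    obtain ⟨a, rfl⟩ := Submodule.mem_span_singleton.1 hv
    rw [← sub_eq_zero, ← mul_sub_one, smul_eq_mul, smul_eq_mul, mul_assoc, mul_assoc, mul_assoc, h2]
    simp
  have h4 := congrArg (·.coeff 1) h3
  have h5 := congrArg (·.coeff 1) e
  simp only [of_apply, coeff_mul_single_apply, mul_one, one_mul] at h4
  simp only [act_apply, pow_one, w2, smul_eq_mul, mul_assoc, sub_mul, one_mul, of_apply,
    coeff_sub, Finsupp.sub_apply, coeff_single_mul_apply, mul_one] at h5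
  have h6 : ∀ g : G, (∑ y : zpowers x, of k G y).coeff g = if g ∈ zpowers x then 1 else 0 :=
    fun g => by
      rw [coeff_sum, Finsupp.finset_sum_apply]
      split_ifs with hg
      · rw [sum_eq_single ⟨g, hg⟩ (fun y _ hy => by
          simp [Finsupp.single_eq_of_ne (mt Subtype.ext hy.symm)]) (by simp)]
        simp
      · exact sum_eq_zero fun y _ => by
          simp [Finsupp.single_eq_of_ne (show g ≠ y from fun e => hg (e ▸ y.2))]
  rw [h4, sub_self, ← of_apply, h1, pj, smul_mul_assoc, sum_mul, coeff_smul, coeff_sum,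
    Finsupp.smul_apply, Finsupp.finset_sum_apply, sum_eq_single 1 (fun g _ hg => ?_) (by simp)] at h5
  · rw [smul_mul_assoc, coeff_smul, Finsupp.smul_apply, of_apply, coeff_single_mul_apply, h6] at h5
    exact h.card (by simpa [eq_comm] using h5)
  · rw [smul_mul_assoc, coeff_smul, Finsupp.smul_apply, of_apply, coeff_single_mul_apply, h6,
      if_neg fun e => ?_, mul_zero, smul_zero]
    have h7 := orderOf_dvd_of_mem_zpowers e
    rw [mul_one, orderOf_inv, orderOf_coe, h.ox, Nat.dvd_prime hp.out, orderOf_eq_one_iff] at h7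
    exact h.card ((CharP.cast_eq_zero_iff k p _).2 (h7.resolve_left hg ▸ orderOf_dvd_natCard g))

theorem exists_simple (l : E →* kˣ) : ∃ (S : Type (max u v)) (_ : AddCommGroup S) (_ : Module k S)
    (_ : Module k[G] S) (_ : IsScalarTower k k[G] S) (_ : FiniteDimensional k S)
    (_ : IsSimpleModule k[G] S) (n : ℕ) (u : S), n < p ∧ Blk k D p ⊤ n u ∧
      u ∈ wt S (l * (α ^ (n - 1))⁻¹) := by
  have := Fintype.ofFinite E
  obtain ⟨ε, h1, h2, h3⟩ := h.exists_ind l
  set I := Submodule.span k[G] {ε}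
  have hε : ε ∈ I := Submodule.mem_span_singleton_self ε
  have h4 := hp.out.two_le
  have : FiniteDimensional k I := inferInstanceAs (FiniteDimensional k (I.restrictScalars k))
  have := isNoetherian_of_tower k (S := k[G]) (M := I) inferInstance
  obtain ⟨J, j1, j2⟩ := set_has_maximal_iff_noetherian.2 this {J : Submodule k[G] I |
    J.mkQ ⟨ε, hε⟩ ∉ im k D (p - 1) ⊤} ⟨⊥, fun ⟨z, _, hz⟩ => by
      obtain ⟨z, rfl⟩ := Submodule.mkQ_surjective _ z
      rw [act_apply, ← map_smul, Submodule.mkQ_apply, Submodule.mkQ_apply, Submodule.Quotient.eq,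
        Submodule.mem_bot, sub_eq_zero] at hz
      exact h3 ((show D ^ (p - 1) • (z : k[G]) = ε from congrArg Subtype.val hz) ▸
        smul_mem_im' (by omega) z.2)⟩
  have : FiniteDimensional k (I ⧸ J) := Module.Finite.of_surjective (J.mkQ.restrictScalars k)
    J.mkQ_surjective
  have := isArtinian_of_tower k (S := k[G]) (M := I ⧸ J) inferInstance
  obtain ⟨S, s1, -⟩ := (eq_bot_or_exists_atom_le (⊤ : Submodule k[G] (I ⧸ J))).resolve_left fun e =>
    j1 (by rw [(Submodule.mem_bot _).1 (e.le (Submodule.mem_top (x := J.mkQ _)))]; exact zero_mem _)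
  have := isSimpleModule_iff_isAtom.2 s1
  have : FiniteDimensional k S := inferInstanceAs (FiniteDimensional k (S.restrictScalars k))
  obtain ⟨z, -, hz⟩ := not_not.1 (mt (j2 (S.comap J.mkQ)) (not_not.2 (by
    simpa using Submodule.comap_strictMono_of_surjective J.mkQ_surjective s1.bot_lt)))
  obtain ⟨z, rfl⟩ := Submodule.mkQ_surjective _ z
  rw [act_apply, ← map_smul, Submodule.mkQ_apply, Submodule.mkQ_apply, eq_comm,
    Submodule.Quotient.eq, Submodule.mem_comap, map_sub, map_smul] at hz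
  have h5 : pj l • J.mkQ ⟨ε, hε⟩ = J.mkQ ⟨ε, hε⟩ :=
    h.pj_of_mem (map_mem_wt _ fun g => Subtype.ext (h1 g))
  have h6 := h.pj_mem_im (l := l) (mem_im_top (k := k) (D := D) (le_refl (p - 1)) (J.mkQ z))
  obtain ⟨n, u, h7⟩ := h.simple_blk (v := pj l • (⟨_, hz⟩ : S)) (pj_mem _) (Subtype.ext (by
    obtain ⟨w, -, hw⟩ := h6
    rw [Submodule.coe_smul, Submodule.coe_smul, smul_sub, h5, ← hw, smul_sub, ← map_smul, act_apply,
      pw1 (Nat.sub_add_cancel hp.out.one_le), h.pow_p, zero_smul, sub_zero,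
      show D • (⟨ε, hε⟩ : I) = 0 from Subtype.ext h2, map_zero, Submodule.coe_zero]))
    fun e => j1 (by
      have := add_mem (map_mem_im S.subtype e) h6
      rwa [map_smul, Submodule.subtype_apply, smul_sub, h5, sub_add_cancel] at this)
  exact ⟨S, _, _, _, _, inferInstance, inferInstance, n, u, h7⟩

end Ctx

end Cfsg.Lib.Blau
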